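import Mathlib
import Cfsg.Agent.H532.CopAct

/-!
helper460 (S2539, layer 0): Glauberman's lemma for a coset in a group.
-/

set_option autoImplicit false

namespace Cfsg.Agent.H460.OT

variable {Y : Type*} [Group Y]

/-- A coset `g Q` which is invariant under a coprime subgroup `A` normalising `Q` contains an element centralised
by `A`. -/
theorem coset_fix {A Q : Subgroup Y} [Finite A] [Finite Q] (hn : ∀ a ∈ A, ∀ q ∈ Q, a * q * a⁻¹ ∈ Q)
    (hcop : (Nat.card A).Coprime (Nat.card Q)) (hsol : Group.IsSolvable A ∨ Group.IsSolvable Q) {g : Y}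
    (hg : ∀ a ∈ A, g⁻¹ * (a * g * a⁻¹) ∈ Q) :
    ∃ q ∈ Q, ∀ a ∈ A, a * (g * q) = (g * q) * a := by
  classical
  let act : MulDistribMulAction A Q :=
    { smul := fun a q => ⟨(a : Y) * q * (a : Y)⁻¹, hn a a.2 q q.2⟩
      one_smul := fun q => Subtype.ext (by show (1 : Y) * q * (1 : Y)⁻¹ = q; group)
      mul_smul := fun a b q => Subtype.ext (by
        show ((a : Y) * b) * q * ((a : Y) * b)⁻¹ = a * (b * q * (b : Y)⁻¹) * (a : Y)⁻¹; group)
      smul_mul := fun a q r => Subtype.ext (by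
        show (a : Y) * (q * r) * (a : Y)⁻¹ = (a * q * (a : Y)⁻¹) * (a * r * (a : Y)⁻¹); group)
      smul_one := fun a => Subtype.ext (by show (a : Y) * 1 * (a : Y)⁻¹ = 1; group) }
  have hact : ∀ (a : A) (q : Q), ((a • q : Q) : Y) = a * q * (a : Y)⁻¹ := fun _ _ => rfl
  let Ω := {y : Y // g⁻¹ * y ∈ Q}
  let aQ : MulAction Q Ω :=
    { smul := fun q y => ⟨y.1 * (q : Y)⁻¹, by
        have h1 : g⁻¹ * (y.1 * (q : Y)⁻¹) = (g⁻¹ * y.1) * (q : Y)⁻¹ := by group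
        rw [h1]
        exact Q.mul_mem y.2 (Q.inv_mem q.2)⟩
      one_smul := fun y => Subtype.ext (by show y.1 * (1 : Y)⁻¹ = y.1; group)
      mul_smul := fun q r y => Subtype.ext (by
        show y.1 * ((q : Y) * r)⁻¹ = (y.1 * (r : Y)⁻¹) * (q : Y)⁻¹; group) }
  let aA : MulAction A Ω :=
    { smul := fun a y => ⟨(a : Y) * y.1 * (a : Y)⁻¹, by
        have h1 : g⁻¹ * ((a : Y) * y.1 * (a : Y)⁻¹) =
            (g⁻¹ * ((a : Y) * g * (a : Y)⁻¹)) * ((a : Y) * (g⁻¹ * y.1) * (a : Y)⁻¹) := by group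
        rw [h1]
        exact Q.mul_mem (hg a a.2) (hn a a.2 _ y.2)⟩
      one_smul := fun y => Subtype.ext (by show (1 : Y) * y.1 * (1 : Y)⁻¹ = y.1; group)
      mul_smul := fun a b y => Subtype.ext (by
        show ((a : Y) * b) * y.1 * ((a : Y) * b)⁻¹ = a * (b * y.1 * (b : Y)⁻¹) * (a : Y)⁻¹; group) }
  have hne : Nonempty Ω := ⟨⟨g, by rw [inv_mul_cancel]; exact Q.one_mem⟩⟩
  obtain ⟨⟨y, hy⟩, -⟩ := H532.CopAct.glauberman (A := A) (G := Q) (Ω := Ω)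
    (fun a q y => Subtype.ext (by
      show (a : Y) * (y.1 * (q : Y)⁻¹) * (a : Y)⁻¹ =
        ((a : Y) * y.1 * (a : Y)⁻¹) * ((a : Y) * q * (a : Y)⁻¹)⁻¹
      group)) hcop hsol
    (fun y y' => ⟨⟨y'.1⁻¹ * y.1, by
        have h1 : y'.1⁻¹ * y.1 = (g⁻¹ * y'.1)⁻¹ * (g⁻¹ * y.1) := by group
        rw [h1]
        exact Q.mul_mem (Q.inv_mem y'.2) y.2⟩, Subtype.ext (by
          show y.1 * (y'.1⁻¹ * y.1)⁻¹ = y'.1; group)⟩)
  refine ⟨g⁻¹ * y.1, y.2, fun a ha => ?_⟩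
  have h1 : a * y.1 * a⁻¹ = y.1 := congrArg Subtype.val (hy ⟨a, ha⟩)
  have h2 : g * (g⁻¹ * y.1) = y.1 := by group
  rw [h2]
  calc a * y.1 = (a * y.1 * a⁻¹) * a := by group
    _ = y.1 * a := by rw [h1]

end Cfsg.Agent.H460.OT
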