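import Mathlib
import Cfsg.Agent.KFacts.RgdBorelTits
import Cfsg.Agent.H460.OT.Coset

/-!
helper460 (S2539, layer 0), abstract form: root group data with a large torus.

* `TD cs h T X z` : `T` is abelian, acts irreducibly on the root groups, `z i ∈ T` centralises the root groups `X x`
  with `x i = 0` and acts without fixed points on the others;
* `cent_fut` : centralisers of subsets of `T` in unipotent groups;
* `prod_pos` : `T`-invariant subgroups of `U` are products of root groups;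
* `std_of_T_le` : a parabolic subgroup containing `T` is standard;
* `levi_dec` : an overgroup of `T` in a parabolic subgroup is a semidirect product.
-/

set_option autoImplicit false
set_option linter.unusedSectionVars false

namespace Cfsg.Agent.H460.OT

open CoxeterSystem Cfsg.Agent.ChevalleyStructure.CoxeterGeom Cfsg.Agent.Tits.Roots Cfsg.Agent.Tits.Core
  Cfsg.Agent.Tits.RootComb Cfsg.Agent.Tits.Exchange Cfsg.Agent.Nodes.Reps Cfsg.Agent.Nodes.BNOf
  Cfsg.Agent.Nodes.StabComb Cfsg.Agent.Nodes.Bruhat Cfsg.Agent.Nodes.OppDec Cfsg.Agent.Nodes.LeviDec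
  Cfsg.Agent.KFacts.RgdPar Cfsg.Agent.KFacts.RgdBorelTits Cfsg.Agent.Nodes.Unique
open scoped commutatorElement

variable {I W Y : Type*} [Fintype I] [DecidableEq I] [Group W] [Group Y] {M : CoxeterMatrix I}
  {cs : CoxeterSystem M W} {A : I → I → ℤ} {h : IsCartan M A} {p : ℕ} {T : Subgroup Y} {n : I → Y}
  {X : (I → ℤ) → Subgroup Y}

/-- A large torus. -/
structure TD (cs : CoxeterSystem M W) (h : IsCartan M A) (T : Subgroup Y) (X : (I → ℤ) → Subgroup Y) (z : I → Y) :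
    Prop where
  ab : ∀ s ∈ T, ∀ t ∈ T, s * t = t * s
  mem : ∀ i, z i ∈ T
  com : ∀ i x, IsRoot cs h x → x i = 0 → ∀ u ∈ X x, z i * u = u * z i
  act : ∀ i x, IsRoot cs h x → x i ≠ 0 → ∀ u ∈ X x, z i * u = u * z i → u = 1
  irr : ∀ x, IsRoot cs h x → ∀ Q : Subgroup Y, Q ≤ X x → Q ≠ ⊥ → (∀ t ∈ T, cj t Q ≤ Q) → Q = X x

section

variable (R : RGD cs h p T n X)

include R

/-- centralisers of a subset of the torus in `FS G (Fut w)` -/
theorem cent_futG [Finite W] {E : Set Y} {G : (I → ℤ) → Subgroup Y} (w : W)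
    (hFC : FC cs h G (Fut cs h w)) (hGX : ∀ x ∈ Fut cs h w, G x ≤ X x)
    (hGT : ∀ x ∈ Fut cs h w, ∀ t ∈ E, cj t (G x) = G x)
    (hc : ∀ x ∈ Fut cs h w, ∀ u ∈ G x, (∀ t ∈ E, t * u = u * t) → u = 1) {u : Y}
    (hu : u ∈ FS G (Fut cs h w)) (hcu : ∀ t ∈ E, t * u = u * t) : u = 1 := by
  induction hn : (Fut cs h w).ncard generalizing w u with
  | zero =>
    have h1 := (Set.ncard_eq_zero (finite_fut w)).1 hn
    rw [h1] at hu
    have h2 : FS G (∅ : Set (I → ℤ)) ≤ ⊥ := FS_le fun z hz => absurd hz (Set.notMem_empty z)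
    exact Subgroup.mem_bot.1 (h2 hu)
  | succ k ih =>
    have hne : (Fut cs h w).Nonempty := by
      rw [Set.nonempty_iff_ne_empty]
      intro h1
      rw [h1, Set.ncard_empty] at hn
      omega
    obtain ⟨y, hy⟩ := hne
    obtain ⟨i, hi⟩ := exists_simple hy
    have hcard : (Fut cs h (w * cs.simple i)).ncard = k := by
      rw [fut_mul hi, Set.ncard_sdiff_singleton_of_mem (mem_fut hi), hn]
      rfl
    have hsub : Fut cs h (w * cs.simple i) ⊆ Fut cs h w := by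
      rw [fut_mul hi]; exact Set.sdiff_subset
    obtain ⟨a, ha, b, hb, e⟩ := mem_peelF hi hFC hu
    have hroot : IsRoot cs h (rep cs h w (sr i)) := (mem_fut hi).1
    have hVX : FS G (Fut cs h (w * cs.simple i)) ≤ RGD.Sup X (Fut cs h (w * cs.simple i)) :=
      FS_le fun z hz => le_trans (hGX z (hsub hz)) (RGD.le_Sup hz)
    have key : ∀ t ∈ E, t * a = a * t ∧ t * b = b * t := by
      intro t ht
      have h1 : t * a * t⁻¹ ∈ G (rep cs h w (sr i)) := by
        rw [← hGT _ (mem_fut hi) t ht]; exact conj_mem_cj.2 ha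
      have h2 : t * b * t⁻¹ ∈ FS G (Fut cs h (w * cs.simple i)) := by
        have h3 : cj t (FS G (Fut cs h (w * cs.simple i))) ≤ FS G (Fut cs h (w * cs.simple i)) := by
          unfold FS
          rw [cj_iSup]
          refine iSup_le ?_
          rintro ⟨z, hz⟩
          show cj t (G z) ≤ _
          rw [hGT z (hsub hz) t ht]
          exact le_iSup (fun z : Fut cs h (w * cs.simple i) => G z.1) ⟨z, hz⟩
        exact h3 (conj_mem_cj.2 hb)
      have h3 : (t * a * t⁻¹) * (t * b * t⁻¹) = a * b := by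
        have h4 := hcu t ht
        rw [e] at h4
        calc (t * a * t⁻¹) * (t * b * t⁻¹) = (t * (a * b)) * t⁻¹ := by group
          _ = a * b := by rw [h4]; group
      have h4 : a⁻¹ * (t * a * t⁻¹) = b * (t * b * t⁻¹)⁻¹ := by
        calc a⁻¹ * (t * a * t⁻¹) = a⁻¹ * ((t * a * t⁻¹) * (t * b * t⁻¹)) * (t * b * t⁻¹)⁻¹ := by group
          _ = _ := by rw [h3]; group
      have h5 : a⁻¹ * (t * a * t⁻¹) = 1 := by
        have h6 : a⁻¹ * (t * a * t⁻¹) ∈ X (rep cs h w (sr i)) ⊓ RGD.Sup X (Fut cs h (w * cs.simple i)) := by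
          refine Subgroup.mem_inf.2 ⟨hGX _ (mem_fut hi) (mul_mem (inv_mem ha) h1), ?_⟩
          rw [h4]
          exact hVX (mul_mem hb (inv_mem h2))
        rw [tail_inf R, Subgroup.mem_bot] at h6
        exact h6
      have h6 : t * a * t⁻¹ = a := (inv_mul_eq_one.1 h5).symm
      have h7 : t * b * t⁻¹ = b := by
        rw [h5] at h4
        exact (mul_inv_eq_one.1 h4.symm).symm
      exact ⟨mul_inv_eq_iff_eq_mul.1 h6, mul_inv_eq_iff_eq_mul.1 h7⟩
    have ha1 : a = 1 := hc _ (mem_fut hi) a ha fun t ht => (key t ht).1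
    have hb1 : b = 1 := ih (w * cs.simple i) (hFC.mono hsub) (fun x hx => hGX x (hsub hx))
      (fun x hx => hGT x (hsub hx)) (fun x hx => hc x (hsub hx)) hb (fun t ht => (key t ht).2) hcard
    rw [e, ha1, hb1, one_mul]

/-- centralisers of a subset of the torus in `Sup X (Fut w)` -/
theorem cent_fut [Finite W] {E : Set Y} (hE : E ⊆ T) (w : W)
    (hc : ∀ x ∈ Fut cs h w, ∀ u ∈ X x, (∀ t ∈ E, t * u = u * t) → u = 1) {u : Y}
    (hu : u ∈ FS X (Fut cs h w)) (hcu : ∀ t ∈ E, t * u = u * t) : u = 1 :=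
  cent_futG R w ((FC_X R 1).mono (fun x hx => ⟨hx.1, by
      rw [inv_one, map_one, Module.End.one_apply]; exact hx.2.1⟩)) (fun _ _ => le_rfl)
    (fun x hx t ht => R.tor x hx.1 t (hE ht)) hc hu hcu

omit R in
/-- two distinct non-opposite roots are separated by the torus -/
theorem TD.sep_sr {z : I → Y} (D : TD cs h T X z) {i : I} {y : I → ℤ} (hy : IsRoot cs h y) (hxy : y ≠ sr i)
    (hxy' : y ≠ -sr i) : ∃ j, (∀ u ∈ X (sr i), z j * u = u * z j) ∧ ∀ u ∈ X y, z j * u = u * z j → u = 1 := by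
  have h1 : ∃ j, j ≠ i ∧ y j ≠ 0 := by
    by_contra hcon
    push Not at hcon
    rcases hy.pos_or_neg with h0 | h0
    · exact hxy (hy.eq_sr h0 i fun k hk => hcon k hk)
    · apply hxy'
      have h2 : -y = sr i := hy.neg.eq_sr (neg_nonneg.2 h0) i fun k hk => by
        rw [Pi.neg_apply, hcon k hk, neg_zero]
      rw [← h2, neg_neg]
  obtain ⟨j, hj, hyj⟩ := h1
  exact ⟨j, D.com j _ (isRoot_sr cs h i) (sr_ne hj), D.act j y hy hyj⟩

theorem TD.sep {z : I → Y} (D : TD cs h T X z) {x y : I → ℤ} (hx : IsRoot cs h x) (hy : IsRoot cs h y)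
    (hxy : y ≠ x) (hxy' : y ≠ -x) :
    ∃ t ∈ T, (∀ u ∈ X x, t * u = u * t) ∧ ∀ u ∈ X y, t * u = u * t → u = 1 := by
  obtain ⟨w, i, rfl⟩ := hx
  obtain ⟨k, hk⟩ := exists_rp cs R.nsys w
  have hy' : IsRoot cs h (rep cs h w⁻¹ y) := hy.act _
  obtain ⟨j, h1, h2⟩ := D.sep_sr (i := i) hy' (fun e => hxy (by rw [← e, rep_apply_inv]))
    (fun e => hxy' (by rw [← map_neg, ← e, rep_apply_inv]))
  have hkT : k * z j * k⁻¹ ∈ T := ((Subgroup.mem_normalizer_iff.1 hk.mem_normalizer) (z j)).1 (D.mem j)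
  have key : ∀ u : Y, (k * z j * k⁻¹) * u = u * (k * z j * k⁻¹) ↔
      z j * (k⁻¹ * u * k) = (k⁻¹ * u * k) * z j := by
    intro u
    constructor
    · intro e
      calc z j * (k⁻¹ * u * k) = k⁻¹ * ((k * z j * k⁻¹) * u) * k := by group
        _ = _ := by rw [e]; group
    · intro e
      calc (k * z j * k⁻¹) * u = k * (z j * (k⁻¹ * u * k)) * k⁻¹ := by group
        _ = _ := by rw [e]; group
  refine ⟨k * z j * k⁻¹, hkT, fun u hu => (key u).2 (h1 _ ?_), fun u hu e => ?_⟩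
  · have := R.conj_mem' hk ⟨w, i, rfl⟩ hu
    rwa [rep_inv_apply] at this
  · have h3 := h2 _ (R.conj_mem' hk hy hu) ((key u).1 e)
    have : u = k * (k⁻¹ * u * k) * k⁻¹ := by group
    rw [this, h3]; group

/-- root groups have no nontrivial `T`-fixed points -/
theorem TD.fpf {z : I → Y} (D : TD cs h T X z) {y : I → ℤ} (hy : IsRoot cs h y) {u : Y} (hu : u ∈ X y)
    (hc : ∀ t ∈ T, t * u = u * t) : u = 1 := by
  obtain ⟨j, hj⟩ : ∃ j, y j ≠ 0 := by
    by_contra hcon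
    push Not at hcon
    exact hy.ne_zero (funext hcon)
  exact D.act j y hy hj u hu (hc _ (D.mem j))

omit R in
theorem FS_T_inv {S : Set (I → ℤ)} {t : Y} (hS : ∀ x ∈ S, cj t (X x) = X x) : cj t (FS X S) ≤ FS X S := by
  unfold FS
  rw [cj_iSup]
  refine iSup_le ?_
  rintro ⟨z, hz⟩
  show cj t (X z) ≤ _
  rw [hS z hz]
  exact le_iSup (fun z : S => X z.1) ⟨z, hz⟩

/-- `T`-invariant subgroups of `Sup X (Fut w)` are products of root groups. -/
theorem prod_fut [Finite W] [Finite Y] [hp : Fact p.Prime] {z : I → Y} (D : TD cs h T X z) (w : W)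
    {Q : Subgroup Y} (hQ : Q ≤ FS X (Fut cs h w)) (hT : ∀ t ∈ T, cj t Q ≤ Q) :
    Q ≤ FS X {x | x ∈ Fut cs h w ∧ X x ≤ Q} := by
  induction hn : (Fut cs h w).ncard generalizing w Q with
  | zero =>
    have h1 := (Set.ncard_eq_zero (finite_fut w)).1 hn
    rw [h1] at hQ
    exact le_trans hQ (FS_le fun z hz => absurd hz (Set.notMem_empty z))
  | succ k ih =>
    have hne : (Fut cs h w).Nonempty := by
      rw [Set.nonempty_iff_ne_empty]
      intro h1
      rw [h1, Set.ncard_empty] at hn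
      omega
    obtain ⟨y, hy⟩ := hne
    obtain ⟨i, hi⟩ := exists_simple hy
    have hcard : (Fut cs h (w * cs.simple i)).ncard = k := by
      rw [fut_mul hi, Set.ncard_sdiff_singleton_of_mem (mem_fut hi), hn]
      rfl
    have hsub : Fut cs h (w * cs.simple i) ⊆ Fut cs h w := by
      rw [fut_mul hi]; exact Set.sdiff_subset
    have hFC : FC cs h X (Fut cs h w) := (FC_X R 1).mono (fun x hx => ⟨hx.1, by
      rw [inv_one, map_one, Module.End.one_apply]; exact hx.2.1⟩)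
    set α := rep cs h w (sr i) with hα
    have hroot : IsRoot cs h α := (mem_fut hi).1
    set V := FS X (Fut cs h (w * cs.simple i)) with hV
    have hVT : ∀ t ∈ T, cj t V ≤ V := fun t ht => FS_T_inv fun x hx => R.tor x hx.1 t ht
    have hQ1T : ∀ t ∈ T, cj t (Q ⊓ V) ≤ Q ⊓ V := by
      intro t ht u hu
      rw [mem_cj] at hu
      refine Subgroup.mem_inf.2 ⟨hT t ht (mem_cj.2 (Subgroup.mem_inf.1 hu).1), hVT t ht (mem_cj.2 (Subgroup.mem_inf.1 hu).2)⟩
    have h1 := ih (w * cs.simple i) (Q := Q ⊓ V) inf_le_right hQ1T hcard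
    have h2 : Q ⊓ V ≤ FS X {x | x ∈ Fut cs h w ∧ X x ≤ Q} :=
      le_trans h1 (FS_mono fun x hx _ => ⟨⟨hsub hx.1, le_trans hx.2 inf_le_left⟩, le_rfl⟩)
    by_cases hQV : Q ≤ V
    · rwa [inf_eq_left.2 hQV] at h2
    obtain ⟨g, hg, hgV⟩ := Set.not_subset.1 hQV
    have hgQ : g ∈ Q := hg
    obtain ⟨a, ha, b, hb, e⟩ := mem_peelF hi hFC (hQ hgQ)
    have ha1 : a ≠ 1 := by
      rintro rfl
      exact hgV (by rw [e, one_mul]; exact hb)
    -- the centraliser of the root group in the torus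
    let A0 : Subgroup Y := T ⊓ Subgroup.centralizer (X α : Set Y)
    have hA0 : ∀ t ∈ A0, ∀ u ∈ X α, t * u = u * t := by
      intro t ht u hu
      exact ((Subgroup.mem_centralizer_iff.1 (Subgroup.mem_inf.1 ht).2) u hu).symm
    have hcop : (Nat.card A0).Coprime (Nat.card ↥(Q ⊓ V)) := by
      have h3 : IsPGroup p ↥(Q ⊓ V) := R.isPGroup_Upos.to_le (le_trans inf_le_right
        (RGD.Sup_mono (fun x hx => ⟨hx.1, hx.2.1⟩)))
      obtain ⟨m, hm⟩ := IsPGroup.iff_card.1 h3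
      rw [hm]
      refine Nat.Coprime.pow_right m ?_
      exact Nat.Coprime.coprime_dvd_left (Subgroup.card_dvd_of_le inf_le_left) R.tcop
    have hsol : Group.IsSolvable A0 := Group.isSolvable_of_comm fun s t => Subtype.ext
      (D.ab s (Subgroup.mem_inf.1 s.2).1 t (Subgroup.mem_inf.1 t.2).1)
    obtain ⟨q, hq, hqc⟩ := coset_fix (A := A0) (Q := Q ⊓ V) (g := g)
      (fun t ht q hq => hQ1T t (Subgroup.mem_inf.1 ht).1 (conj_mem_cj.2 hq)) hcop (Or.inl hsol) (by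
        intro t ht
        have htT : t ∈ T := (Subgroup.mem_inf.1 ht).1
        refine Subgroup.mem_inf.2 ⟨mul_mem (inv_mem hgQ) (hT t htT (conj_mem_cj.2 hgQ)), ?_⟩
        have h3 : g⁻¹ * (t * g * t⁻¹) = b⁻¹ * (t * b * t⁻¹) := by
          have h4 := hA0 t ht a ha
          rw [e]
          calc (a * b)⁻¹ * (t * (a * b) * t⁻¹) = b⁻¹ * a⁻¹ * ((t * a) * b * t⁻¹) := by group
            _ = _ := by rw [h4]; group
        rw [h3]
        exact mul_mem (inv_mem hb) (hVT t htT (conj_mem_cj.2 hb)))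
    have hbq : b * q = 1 := by
      refine cent_fut R (E := (A0 : Set Y)) (fun t ht => (Subgroup.mem_inf.1 ht).1) (w * cs.simple i) ?_
        (mul_mem hb (Subgroup.mem_inf.1 hq).2) ?_
      · intro x hx u hu hc
        have hx' : x ∈ Fut cs h w ∧ x ≠ α := by
          rw [fut_mul hi] at hx
          exact ⟨hx.1, hx.2⟩
        obtain ⟨t, ht, h3, h4⟩ := D.sep R hroot hx.1 hx'.2 (by
          intro e
          have h5 : 0 ≤ -α := e ▸ hx'.1.2.1
          exact hroot.not_pos_neg hi (neg_nonneg.1 h5))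
        refine h4 u hu (hc t (Subgroup.mem_inf.2 ⟨ht, Subgroup.mem_centralizer_iff.2 fun v hv => (h3 v hv).symm⟩))
      · intro t ht
        have h3 := hqc t ht
        rw [e] at h3
        have h4 := hA0 t ht a ha
        have h5 : a * (t * (b * q)) = a * ((b * q) * t) := by
          calc a * (t * (b * q)) = (a * t) * (b * q) := by group
            _ = t * (a * b * q) := by rw [← h4]; group
            _ = _ := by rw [h3]; group
        exact mul_left_cancel h5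
    have haQ : a ∈ Q := by
      have h3 : a = g * q := by
        rw [e, mul_assoc, hbq, mul_one]
      rw [h3]
      exact mul_mem hgQ (Subgroup.mem_inf.1 hq).1
    have hXQ : X α ≤ Q := by
      have h3 : Q ⊓ X α = X α := D.irr α hroot (Q ⊓ X α) inf_le_right (by
        intro h0
        have : a ∈ (⊥ : Subgroup Y) := h0 ▸ Subgroup.mem_inf.2 ⟨haQ, ha⟩
        exact ha1 (Subgroup.mem_bot.1 this)) (by
        intro t ht u hu
        rw [mem_cj] at hu
        refine Subgroup.mem_inf.2 ⟨hT t ht (mem_cj.2 (Subgroup.mem_inf.1 hu).1), ?_⟩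
        rw [← R.tor α hroot t ht]
        exact mem_cj.2 (Subgroup.mem_inf.1 hu).2)
      rw [← h3]; exact inf_le_left
    intro g' hg'
    obtain ⟨a', ha', b', hb', e'⟩ := mem_peelF hi hFC (hQ hg')
    have hb'Q : b' ∈ Q := by
      have : b' = a'⁻¹ * g' := by rw [e']; group
      rw [this]
      exact mul_mem (inv_mem (hXQ ha')) hg'
    rw [e']
    exact mul_mem (le_FS (G := X) (S := {x | x ∈ Fut cs h w ∧ X x ≤ Q}) ⟨mem_fut hi, hXQ⟩ ha')
      (h2 (Subgroup.mem_inf.2 ⟨hb'Q, hb'⟩))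

omit R in
/-- the roots whose root groups lie in `Q` -/
def RS (cs : CoxeterSystem M W) (h : IsCartan M A) (X : (I → ℤ) → Subgroup Y)
    (Q : Subgroup Y) : Set (I → ℤ) := {x | IsRoot cs h x ∧ X x ≤ Q}

omit R in
theorem cj_le_iff {g : Y} {A B : Subgroup Y} : A ≤ cj g B ↔ cj g⁻¹ A ≤ B := by
  rw [← cj_le_cj_iff g (A := cj g⁻¹ A), cj_cj_inv]

theorem cj_T_of_rp {w : W} {k t : Y} (hk : Rp cs R.nsys w k) (ht : t ∈ T) : k⁻¹ * t * k ∈ T := by
  have := ((Subgroup.mem_normalizer_iff.1 hk.inv.mem_normalizer) t).1 ht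
  rwa [inv_inv] at this

/-- `T`-invariant subgroups of `k U k⁻¹` are products of root groups. -/
theorem prod_pos [Finite W] [Finite Y] [hp : Fact p.Prime] {z : I → Y} (D : TD cs h T X z) {w : W} {k : Y}
    (hk : Rp cs R.nsys w k) {Q : Subgroup Y} (hQ : Q ≤ cj k (RGD.Sup X (RGD.Pos cs h)))
    (hT : ∀ t ∈ T, cj t Q ≤ Q) :
    Q = RGD.Sup X {x | x ∈ RS cs h X Q ∧ 0 ≤ rep cs h w⁻¹ x} := by
  apply le_antisymm
  · have h1 := prod_fut R D (1 : W) (Q := cj k⁻¹ Q) (by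
      rw [fut_one]
      exact cj_le_iff.1 hQ) (by
      intro t ht
      have h2 : k * t * k⁻¹ ∈ T := ((Subgroup.mem_normalizer_iff.1 hk.mem_normalizer) t).1 ht
      have h3 : cj t (cj k⁻¹ Q) = cj k⁻¹ (cj (k * t * k⁻¹) Q) := by
        rw [← cj_mul, ← cj_mul]; congr 1; group
      rw [h3]
      exact cj_mono _ (hT _ h2))
    have h2 := cj_mono k h1
    rw [cj_cj_inv] at h2
    refine le_trans h2 ?_
    unfold FS
    rw [cj_iSup]
    refine iSup_le ?_
    rintro ⟨x, hx⟩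
    show cj k (X x) ≤ _
    rw [R.conj_rp hk hx.1.1]
    refine RGD.le_Sup (S := {x | x ∈ RS cs h X Q ∧ 0 ≤ rep cs h w⁻¹ x}) ⟨⟨hx.1.1.act w, ?_⟩, ?_⟩
    · rw [← R.conj_rp hk hx.1.1]
      have h3 := cj_mono k hx.2
      rwa [cj_cj_inv] at h3
    · rw [rep_inv_apply]; exact hx.1.2.1
  · exact RGD.Sup_le fun x hx => hx.1.2

/-- a functional is nonnegative on a conjugate of the positive system -/
theorem pos_le_conj [Finite W] (f : (I → ℤ) →+ ℤ) : ∃ w k, Rp cs R.nsys w k ∧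
    (∀ x, IsRoot cs h x → 0 < f x → 0 ≤ rep cs h w⁻¹ x) ∧
    RGD.Sup X {x | IsRoot cs h x ∧ 0 < f x} ≤ cj k (RGD.Sup X (RGD.Pos cs h)) := by
  obtain ⟨w, hw⟩ := exists_dom (cs := cs) (h := h) f
  obtain ⟨k, hk⟩ := exists_rp cs R.nsys w
  have h0 : ∀ x, IsRoot cs h x → 0 < f x → 0 ≤ rep cs h w⁻¹ x := by
    intro x hx hfx
    rcases (hx.act w⁻¹).pos_or_neg with h1 | h1
    · exact h1
    · exfalso
      have h2 := dom_nonneg hw (neg_nonneg.2 h1)
      rw [pull_apply, map_neg, rep_apply_inv, map_neg] at h2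
      linarith
  refine ⟨w, k, hk, h0, RGD.Sup_le fun x hx => ?_⟩
  have h1 : X x = cj k (X (rep cs h w⁻¹ x)) := by rw [R.conj_rp hk (hx.1.act _), rep_apply_inv]
  rw [h1]
  exact cj_mono k (RGD.le_Sup (S := RGD.Pos cs h) ⟨hx.1.act _, h0 x hx.1 hx.2⟩)

/-- centralisers in the unipotent radical of a parabolic subgroup -/
theorem cent_half [Finite W] {E : Set Y} (hE : E ⊆ T) (f : (I → ℤ) →+ ℤ)
    (hc : ∀ x, IsRoot cs h x → 0 < f x → ∀ u ∈ X x, (∀ t ∈ E, t * u = u * t) → u = 1) {u : Y}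
    (hu : u ∈ RGD.Sup X {x | IsRoot cs h x ∧ 0 < f x}) (hcu : ∀ t ∈ E, t * u = u * t) : u = 1 := by
  obtain ⟨w, k, hk, h0, h1⟩ := pos_le_conj R f
  set D : Set (I → ℤ) := {x | IsRoot cs h x ∧ 0 < f (rep cs h w x)} with hD
  have hDc : ∀ x ∈ D, ∀ y ∈ D, ∀ z, Btwn cs h x y z → z ∈ D := fun x hx y hy z hz =>
    ⟨hz.1, Nodes.Slope.btwn_pos' (hz.act w) f hx.2 hy.2.le⟩
  have hFC : FC cs h X (Fut cs h 1) := (FC_X R 1).mono (fun x hx => ⟨hx.1, by
      rw [inv_one, map_one, Module.End.one_apply]; exact hx.2.1⟩)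
  have hu' : k⁻¹ * u * k ∈ FS (cut D X) (Fut cs h 1) := by
    have h2 : u ∈ cj k (FS (cut D X) (Fut cs h 1)) := by
      refine (RGD.Sup_le ?_ : RGD.Sup X {x | IsRoot cs h x ∧ 0 < f x} ≤ _) hu
      intro x hx
      have h1 : X x = cj k (X (rep cs h w⁻¹ x)) := by rw [R.conj_rp hk (hx.1.act _), rep_apply_inv]
      rw [h1]
      refine cj_mono k ?_
      have h3 : rep cs h w⁻¹ x ∈ D := ⟨hx.1.act _, by rw [rep_apply_inv]; exact hx.2⟩
      have h4 : rep cs h w⁻¹ x ∈ Fut cs h (1 : W) := by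
        rw [fut_one]; exact ⟨hx.1.act _, h0 x hx.1 hx.2⟩
      refine le_trans ?_ (le_FS (G := cut D X) h4)
      rw [cut_pos h3]
    exact mem_cj.1 h2
  have h2 : k⁻¹ * u * k = 1 := by
    refine cent_futG R (E := {t | k * t * k⁻¹ ∈ E}) (1 : W) (hFC.restr hDc) (fun x _ => cut_le D X x) ?_ ?_ hu' ?_
    · intro x hx t ht
      have htT : t ∈ T := by
        have := cj_T_of_rp R hk (hE ht)
        have h3 : k⁻¹ * (k * t * k⁻¹) * k = t := by group
        rwa [h3] at this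
      by_cases hxD : x ∈ D
      · rw [cut_pos hxD]; exact R.tor x hx.1 t htT
      · rw [cut_neg hxD]; exact Subgroup.map_bot _
    · intro x hx v hv hcv
      by_cases hxD : x ∈ D
      · rw [cut_pos hxD] at hv
        have h3 : k * v * k⁻¹ = 1 := by
          refine hc (rep cs h w x) (hx.1.act w) hxD.2 _ (R.conj_mem hk hx.1 hv) ?_
          intro t ht
          have h4 := hcv (k⁻¹ * t * k) (by
            show k * (k⁻¹ * t * k) * k⁻¹ ∈ E
            have : k * (k⁻¹ * t * k) * k⁻¹ = t := by group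
            rwa [this])
          calc t * (k * v * k⁻¹) = k * ((k⁻¹ * t * k) * v) * k⁻¹ := by group
            _ = _ := by rw [h4]; group
        have h4 : v = k⁻¹ * (k * v * k⁻¹) * k := by group
        rw [h4, h3]; group
      · rw [cut_neg hxD, Subgroup.mem_bot] at hv
        exact hv
    · intro t ht
      have h3 := hcu _ ht
      calc t * (k⁻¹ * u * k) = k⁻¹ * ((k * t * k⁻¹) * u) * k := by group
        _ = _ := by rw [h3]; group
  have h3 : u = k * (k⁻¹ * u * k) * k⁻¹ := by group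
  rw [h3, h2]; group

omit R in
theorem T_le_PS' {Ω : Set (I → ℤ)} {t : Y} (ht : t ∈ T) : t ∈ PS T X Ω := T_le_PS ht

/-- **A parabolic subgroup containing `T` is standard.** -/
theorem std_of_T_le [Finite W] {z : I → Y} (D : TD cs h T X z) {f : (I → ℤ) →+ ℤ} (hf : ∀ i, 0 ≤ f (sr i)) {g : Y}
    (hg : g ∈ GG cs h T X) (hT : ∀ t ∈ T, g⁻¹ * t * g ∈ PS T X (Half cs h f)) :
    ∃ w k, Rp cs R.nsys w k ∧ k⁻¹ * g ∈ PS T X (Half cs h f) := by
  obtain ⟨w, b₁, hb₁, k, hk, b₂, hb₂, e⟩ := (mem_GG R).1 hg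
  set P := PS T X (Half cs h f) with hP
  have hBP : RGD.B cs h T X ≤ P :=
    PS_mono (T := T) (X := X) (Ω := RGD.Pos cs h) (fun x hx => ⟨hx.1, dom_nonneg hf hx.2⟩)
  obtain ⟨t1, ht1, u, hu, e1⟩ := R.mem_B.1 hb₁
  have hb₂P := hBP hb₂
  -- split `u`
  have hS : Nodes.Slope.Closed cs h (RGD.Pos cs h) := ⟨fun x hx => hx.1, closed_pos⟩
  obtain ⟨a, ha, c, hc, e2⟩ := Nodes.Slope.split R hS Nodes.Slope.htHom (-(pull cs h f w⁻¹))
    (fun x hx => RGD.ht_pos hx.1 hx.2) hu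
  have hcP : k⁻¹ * c * k ∈ P := by
    have h1 : c ∈ cj k P := by
      refine (RGD.Sup_le ?_ : RGD.Sup X {x | x ∈ RGD.Pos cs h ∧ (-(pull cs h f w⁻¹)) x ≤ 0} ≤ _) hc
      intro x hx
      have h1 : X x = cj k (X (rep cs h w⁻¹ x)) := by rw [R.conj_rp hk (hx.1.1.act _), rep_apply_inv]
      rw [h1]
      refine cj_mono k (X_le_PS ⟨hx.1.1.act _, ?_⟩)
      have h2 := hx.2
      rw [AddMonoidHom.neg_apply, pull_apply] at h2
      linarith
    exact mem_cj.1 h1
  have hak : ∀ s ∈ T, (a * k)⁻¹ * s * (a * k) ∈ P := by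
    intro s hs
    have h1 := hT (t1 * s * t1⁻¹) (mul_mem (mul_mem ht1 hs) (inv_mem ht1))
    have h2 : (a * k)⁻¹ * s * (a * k) = (k⁻¹ * c * k) * b₂ * (g⁻¹ * (t1 * s * t1⁻¹) * g) *
        ((k⁻¹ * c * k) * b₂)⁻¹ := by
      rw [e, e1, e2]; group
    rw [h2]
    exact mul_mem (mul_mem (mul_mem hcP hb₂P) h1) (inv_mem (mul_mem hcP hb₂P))
  have hneg : ∀ v ∈ RGD.Sup X {x | x ∈ RGD.Pos cs h ∧ 0 < (-(pull cs h f w⁻¹)) x},
      k⁻¹ * v * k ∈ RGD.Sup X {x | IsRoot cs h x ∧ f x < 0} := by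
    intro v hv
    have h1 : v ∈ cj k (RGD.Sup X {x | IsRoot cs h x ∧ f x < 0}) := by
      refine (RGD.Sup_le ?_ : RGD.Sup X {x | x ∈ RGD.Pos cs h ∧ 0 < (-(pull cs h f w⁻¹)) x} ≤ _) hv
      intro x hx
      have h1 : X x = cj k (X (rep cs h w⁻¹ x)) := by rw [R.conj_rp hk (hx.1.1.act _), rep_apply_inv]
      rw [h1]
      refine cj_mono k (RGD.le_Sup (S := {x | IsRoot cs h x ∧ f x < 0}) ⟨hx.1.1.act _, ?_⟩)
      have h2 := hx.2
      rw [AddMonoidHom.neg_apply, pull_apply] at h2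
      linarith
    exact mem_cj.1 h1
  have hcomm : ∀ s ∈ T, s * a = a * s := by
    intro s hs
    have h1 : s * a * s⁻¹ ∈ RGD.Sup X {x | x ∈ RGD.Pos cs h ∧ 0 < (-(pull cs h f w⁻¹)) x} :=
      FS_T_inv (S := {x | x ∈ RGD.Pos cs h ∧ 0 < (-(pull cs h f w⁻¹)) x})
        (fun x hx => R.tor x hx.1.1 s hs) (conj_mem_cj.2 ha)
    have h2 := hneg _ (mul_mem (inv_mem ha) h1)
    have h3 : k⁻¹ * (a⁻¹ * (s * a * s⁻¹)) * k ∈ P := by
      have h4 : k⁻¹ * (a⁻¹ * (s * a * s⁻¹)) * k = ((a * k)⁻¹ * s * (a * k)) * (k⁻¹ * s * k)⁻¹ := by group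
      rw [h4]
      exact mul_mem (hak s hs) (inv_mem (T_le_PS (cj_T_of_rp R hk hs)))
    have h4 := key R f (rp_one (cs := cs) (hN := R.nsys)) h2 (by rw [mul_one]; exact h3)
    have h5 : a⁻¹ * (s * a * s⁻¹) = 1 := by
      have : a⁻¹ * (s * a * s⁻¹) = k * (k⁻¹ * (a⁻¹ * (s * a * s⁻¹)) * k) * k⁻¹ := by group
      rw [this, h4]; group
    have h6 : a = s * a * s⁻¹ := inv_mul_eq_one.1 h5
    exact (mul_inv_eq_iff_eq_mul.1 h6.symm)
  have ha1 : a = 1 := by
    refine cent_fut R (E := (T : Set Y)) (fun _ ht => ht) (1 : W) (fun x hx u hu hc => D.fpf R hx.1 hu hc) ?_ hcomm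
    rw [fut_one]
    exact RGD.Sup_mono (S := {x | x ∈ RGD.Pos cs h ∧ 0 < (-(pull cs h f w⁻¹)) x}) (S' := RGD.Pos cs h)
      (fun x hx => hx.1) ha
  refine ⟨w, k, hk, ?_⟩
  have h1 : k⁻¹ * g = (k⁻¹ * t1 * k) * (k⁻¹ * c * k) * b₂ := by
    rw [e, e1, e2, ha1]; group
  rw [h1]
  exact mul_mem (mul_mem (T_le_PS (cj_T_of_rp R hk ht1)) hcP) hb₂P

/-- **The Levi decomposition of an overgroup of `T` in a parabolic subgroup.** -/
theorem levi_dec [Finite W] [Finite Y] [hp : Fact p.Prime] {z : I → Y} (D : TD cs h T X z) (f : (I → ℤ) →+ ℤ)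
    {F : Subgroup Y} (hTF : T ≤ F) (hF : F ≤ PS T X (Half cs h f)) {Z : Subgroup Y} (hZT : Z ≤ T)
    (h0 : ∀ x, IsRoot cs h x → f x = 0 → ∀ u ∈ X x, ∀ t ∈ Z, t * u = u * t)
    (h1 : ∀ x, IsRoot cs h x → 0 < f x → ∀ u ∈ X x, (∀ t ∈ Z, t * u = u * t) → u = 1) {y : Y} (hy : y ∈ F) :
    ∃ v ∈ F ⊓ RGD.Sup X {x | IsRoot cs h x ∧ 0 < f x}, ∃ l ∈ F ⊓ PS T X {x | IsRoot cs h x ∧ f x = 0},
      y = v * l := by
  set V := RGD.Sup X {x | IsRoot cs h x ∧ 0 < f x} with hV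
  set L := PS T X {x | IsRoot cs h x ∧ f x = 0} with hL
  have hLN : L ≤ Subgroup.normalizer (V : Set Y) := by
    refine sup_le (R.T_le_normalizer fun x hx => hx.1) (RGD.Sup_le fun x hx => ?_)
    refine R.le_normalizer (S := {x | IsRoot cs h x ∧ 0 < f x}) hx.1 fun y hy => ?_
    have hy' : IsRoot cs h y ∧ 0 < f y := hy
    refine ⟨hy'.1, Or.inr ⟨?_, fun z hz => ?_⟩⟩
    · rintro rfl
      have h2 := hx.2
      have h3 := hy'.2
      rw [map_neg] at h2
      linarith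
    · show IsRoot cs h z ∧ 0 < f z
      exact ⟨hz.1, Nodes.Slope.btwn_pos' hz.symm f hy'.2 hx.2.ge⟩
  have hP : PS T X (Half cs h f) ≤ V ⊔ L := by
    refine sup_le (le_trans T_le_PS le_sup_right) (RGD.Sup_le fun x hx => ?_)
    rcases hx.2.eq_or_lt with h2 | h2
    · exact le_trans (X_le_PS (T := T) (X := X) (Ω := {x | IsRoot cs h x ∧ f x = 0}) ⟨hx.1, h2.symm⟩) le_sup_right
    · exact le_trans (RGD.le_Sup (S := {x | IsRoot cs h x ∧ 0 < f x}) ⟨hx.1, h2⟩) le_sup_left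
  have hy2 : y ∈ ((V ⊔ L : Subgroup Y) : Set Y) := hP (hF hy)
  rw [Subgroup.coe_mul_of_right_le_normalizer_left _ _ hLN, Set.mem_mul] at hy2
  obtain ⟨v, hv, l, hl, rfl⟩ := hy2
  have hZL : ∀ t ∈ Z, ∀ l ∈ L, t * l = l * t := by
    intro t ht l hl
    have h2 : L ≤ Subgroup.centralizer {t} := by
      refine sup_le (fun s hs => ?_) (RGD.Sup_le fun x hx u hu => ?_)
      · rw [Subgroup.mem_centralizer_singleton_iff]
        exact D.ab s hs t (hZT ht)
      · rw [Subgroup.mem_centralizer_singleton_iff]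
        exact (h0 x hx.1 hx.2 u hu t ht).symm
    exact ((Subgroup.mem_centralizer_singleton_iff).1 (h2 hl)).symm
  have hVT : ∀ t ∈ T, ∀ u ∈ V, t * u * t⁻¹ ∈ V := fun t ht u hu =>
    FS_T_inv (S := {x | IsRoot cs h x ∧ 0 < f x}) (fun x hx => R.tor x hx.1 t ht) (conj_mem_cj.2 hu)
  have hpV : IsPGroup p ↥V := by
    obtain ⟨w, k, hk, -, h2⟩ := pos_le_conj R f
    have h3 : IsPGroup p ↥(cj k (RGD.Sup X (RGD.Pos cs h))) := R.isPGroup_Upos.map _
    exact h3.to_le h2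
  have hcop : (Nat.card Z).Coprime (Nat.card ↥(F ⊓ V)) := by
    have h3 : IsPGroup p ↥(F ⊓ V) := hpV.to_le inf_le_right
    obtain ⟨m, hm⟩ := IsPGroup.iff_card.1 h3
    rw [hm]
    refine Nat.Coprime.pow_right m ?_
    exact Nat.Coprime.coprime_dvd_left (Subgroup.card_dvd_of_le hZT) R.tcop
  have hsol : Group.IsSolvable Z := Group.isSolvable_of_comm fun s t => Subtype.ext
    (D.ab s (hZT s.2) t (hZT t.2))
  obtain ⟨q, hq, hqc⟩ := coset_fix (A := Z) (Q := F ⊓ V) (g := v⁻¹)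
    (fun t ht q hq => Subgroup.mem_inf.2 ⟨mul_mem (mul_mem (hTF (hZT ht)) (Subgroup.mem_inf.1 hq).1)
      (inv_mem (hTF (hZT ht))), hVT t (hZT ht) q (Subgroup.mem_inf.1 hq).2⟩) hcop (Or.inl hsol) (by
      intro t ht
      have htF : t ∈ F := hTF (hZT ht)
      have h3 : v⁻¹⁻¹ * (t * v⁻¹ * t⁻¹) = (v * l) * (t * (v * l) * t⁻¹)⁻¹ := by
        have h4 := hZL t ht l hl
        have h5 : l * t * l⁻¹ = t := by rw [← h4]; group
        calc v⁻¹⁻¹ * (t * v⁻¹ * t⁻¹) = v * t * v⁻¹ * t⁻¹ := by group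
          _ = v * (l * t * l⁻¹) * v⁻¹ * t⁻¹ := by rw [h5]
          _ = (v * l) * (t * (v * l) * t⁻¹)⁻¹ := by group
      refine Subgroup.mem_inf.2 ⟨?_, ?_⟩
      · rw [h3]
        exact mul_mem hy (inv_mem (mul_mem (mul_mem htF hy) (inv_mem htF)))
      · rw [inv_inv]
        exact mul_mem hv (hVT t (hZT ht) _ (inv_mem hv)))
  have hvq : v⁻¹ * q = 1 := cent_half R (E := (Z : Set Y)) (fun t ht => hZT ht) f h1
    (mul_mem (inv_mem hv) (Subgroup.mem_inf.1 hq).2) hqc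
  have hvF : v ∈ F := by
    have : v = q := inv_mul_eq_one.1 hvq
    rw [this]
    exact (Subgroup.mem_inf.1 hq).1
  refine ⟨v, Subgroup.mem_inf.2 ⟨hvF, hv⟩, l, Subgroup.mem_inf.2 ⟨?_, hl⟩, rfl⟩
  have : l = v⁻¹ * (v * l) := by group
  rw [this]
  exact mul_mem (inv_mem hvF) hy

end

end Cfsg.Agent.H460.OT
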