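import Mathlib
import Cfsg.Agent.H460.OT.Prod

/-!
helper460 (S2539, layer 0), abstract consequences of the Borel–Tits property `BT`:

* `bt_std` : a `T`-invariant `p`-subgroup `Q ≠ 1` lies in the unipotent radical of a standard proper parabolic subgroup
  containing the normaliser of `Q`;
* `prod_inv` : a `T`-invariant `p`-subgroup is the product of the root groups it contains;
* `levi_split` : an overgroup `F` of `T` normalising a `p`-subgroup `Q ≠ 1` is `V L`, `Q ≤ V` normal `p`-subgroup,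
  `T ≤ L`, `V ∩ L = 1`;
* `conj_root` : the normaliser of `T` permutes the root groups.
-/

set_option autoImplicit false
set_option linter.unusedSectionVars false

namespace Cfsg.Agent.H460.OT

open CoxeterSystem Cfsg.Agent.ChevalleyStructure.CoxeterGeom Cfsg.Agent.Tits.Roots Cfsg.Agent.Tits.Core
  Cfsg.Agent.Tits.RootComb Cfsg.Agent.Tits.Exchange Cfsg.Agent.Nodes.Reps Cfsg.Agent.Nodes.BNOf
  Cfsg.Agent.Nodes.StabComb Cfsg.Agent.Nodes.Bruhat Cfsg.Agent.Nodes.OppDec Cfsg.Agent.Nodes.LeviDec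
  Cfsg.Agent.KFacts.RgdPar Cfsg.Agent.KFacts.RgdBorelTits Cfsg.Agent.Nodes.Unique
open scoped commutatorElement

variable {I W Y : Type*} [Fintype I] [DecidableEq I] [Group W] [Group Y] {M : CoxeterMatrix I}
  {cs : CoxeterSystem M W} {A : I → I → ℤ} {h : IsCartan M A} {p : ℕ} {T : Subgroup Y} {n : I → Y}
  {X : (I → ℤ) → Subgroup Y}

/-- the Borel–Tits property -/
def BT (p : ℕ) (cs : CoxeterSystem M W) (h : IsCartan M A) (T : Subgroup Y) (X : (I → ℤ) → Subgroup Y) : Prop :=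
  ∀ Q : Subgroup Y, Q ≤ GG cs h T X → IsPGroup p ↥Q → Q ≠ ⊥ → ∃ g ∈ GG cs h T X, ∃ J : Set I, J ≠ Set.univ ∧
    Q ≤ cj g (VJ cs h X J) ∧ ∀ x ∈ GG cs h T X, cj x Q = Q → x ∈ cj g (PJ cs h T X J)

open Classical in
/-- the functional of `J` -/
noncomputable def fJ (J : Set I) : (I → ℤ) →+ ℤ where
  toFun x := ∑ i, if i ∈ J then 0 else x i
  map_zero' := by simp
  map_add' x y := by
    rw [← Finset.sum_add_distrib]
    exact Finset.sum_congr rfl fun i _ => by by_cases hi : i ∈ J <;> simp [hi]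

open Classical in
theorem fJ_apply (J : Set I) (x : I → ℤ) : fJ J x = ∑ i, if i ∈ J then 0 else x i := rfl

open Classical in
theorem fJ_sr (J : Set I) (i : I) : fJ J (sr i) = if i ∈ J then 0 else 1 := by
  rw [fJ_apply, Finset.sum_eq_single i]
  · rw [sr_self]
  · intro k _ hk
    rw [sr_ne hk, ite_self]
  · intro hi; exact absurd (Finset.mem_univ i) hi

theorem fJ_sr_nonneg (J : Set I) (i : I) : 0 ≤ fJ J (sr i) := by
  classical
  rw [fJ_sr]
  split_ifs <;> omega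

theorem fJ_zero_set (J : Set I) : {i | fJ J (sr i) = 0} = J := by
  classical
  ext i
  show fJ J (sr i) = 0 ↔ i ∈ J
  rw [fJ_sr]
  by_cases hi : i ∈ J
  · rw [if_pos hi]; simp [hi]
  · rw [if_neg hi]; simp [hi]

theorem PS_half_fJ (J : Set I) : PS T X (Half cs h (fJ J)) = PJ cs h T X J := by
  rw [PS_half_of_dom (fJ_sr_nonneg J), fJ_zero_set]

theorem exists_pos_of_fJ {J : Set I} {x : I → ℤ} (hx : 0 < fJ J x) : ∃ k, k ∉ J ∧ 0 < x k := by
  classical
  by_contra hcon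
  push Not at hcon
  have : fJ J x ≤ 0 := by
    rw [fJ_apply]
    refine Finset.sum_nonpos fun i _ => ?_
    by_cases hi : i ∈ J
    · rw [if_pos hi]
    · rw [if_neg hi]; exact hcon i hi
  omega

theorem half_pos_fJ (J : Set I) : {x | IsRoot cs h x ∧ 0 < fJ J x} = NotJ cs h J := by
  classical
  ext x
  constructor
  · rintro ⟨hx, h0⟩
    obtain ⟨k, hk, h1⟩ := exists_pos_of_fJ h0
    exact ⟨hx, nonneg_of_pos_apply hx h1, k, hk, h1⟩
  · rintro ⟨hx, h0, k, hk, h1⟩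
    refine ⟨hx, ?_⟩
    show 0 < fJ J x
    rw [fJ_apply]
    refine Finset.sum_pos' (fun i _ => ?_) ⟨k, Finset.mem_univ k, ?_⟩
    · by_cases hi : i ∈ J
      · rw [if_pos hi]
      · rw [if_neg hi]; exact h0 i
    · rw [if_neg hk]; exact h1

theorem half_zero_fJ (J : Set I) : {x | IsRoot cs h x ∧ fJ J x = 0} = RootsJ cs h J := by
  classical
  ext x
  constructor
  · rintro ⟨hx, h0⟩
    refine ⟨hx, fun k hk => ?_⟩
    by_contra hne
    rcases hx.pos_or_neg with h1 | h1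
    · have h2 : x ∈ {x | IsRoot cs h x ∧ 0 < fJ J x} := by
        rw [half_pos_fJ]
        exact ⟨hx, h1, k, hk, lt_of_le_of_ne (h1 k) (Ne.symm hne)⟩
      have h3 : 0 < fJ J x := h2.2
      omega
    · have h2 : -x ∈ {x | IsRoot cs h x ∧ 0 < fJ J x} := by
        rw [half_pos_fJ]
        have h4 : x k < 0 := lt_of_le_of_ne (h1 k) hne
        exact ⟨hx.neg, neg_nonneg.2 h1, k, hk, by rw [Pi.neg_apply]; omega⟩
      have h3 : 0 < fJ J (-x) := h2.2
      rw [map_neg] at h3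
      omega
  · rintro ⟨hx, h0⟩
    refine ⟨hx, ?_⟩
    show fJ J x = 0
    rw [fJ_apply]
    refine Finset.sum_eq_zero fun i _ => ?_
    by_cases hi : i ∈ J
    · rw [if_pos hi]
    · rw [if_neg hi]; exact h0 i hi

section

variable (R : RGD cs h p T n X)

include R

/-- The Levi decomposition in a standard parabolic subgroup. -/
theorem levi_J [Finite W] [Finite Y] [hp : Fact p.Prime] {z : I → Y} (D : TD cs h T X z) (J : Set I)
    {F : Subgroup Y} (hTF : T ≤ F) (hF : F ≤ PJ cs h T X J) {y : Y} (hy : y ∈ F) :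
    ∃ v ∈ F ⊓ VJ cs h X J, ∃ l ∈ F ⊓ LJ cs h T X J, y = v * l := by
  have h1 := levi_dec R D (fJ J) hTF (by rw [PS_half_fJ]; exact hF)
    (Z := T ⊓ Subgroup.centralizer (⋃ x ∈ {x | IsRoot cs h x ∧ fJ J x = 0}, (X x : Set Y))) inf_le_left
    (fun x hx h0 u hu t ht => by
      have h2 := Subgroup.mem_centralizer_iff.1 (Subgroup.mem_inf.1 ht).2 u
        (Set.mem_iUnion₂.2 ⟨x, ⟨hx, h0⟩, hu⟩)
      exact h2.symm)
    (fun x hx h0 u hu hc => by
      obtain ⟨k, hk, hk0⟩ := exists_pos_of_fJ h0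
      refine D.act k x hx hk0.ne' u hu (hc _ (Subgroup.mem_inf.2 ⟨D.mem k, ?_⟩))
      rw [Subgroup.mem_centralizer_iff]
      intro v hv
      obtain ⟨y, hy, hvy⟩ := Set.mem_iUnion₂.1 hv
      have hy' : y ∈ RootsJ cs h J := by rw [← half_zero_fJ]; exact hy
      exact (D.com k y hy.1 (hy'.2 k hk) v hvy).symm) hy
  obtain ⟨v, hv, l, hl, e⟩ := h1
  refine ⟨v, ?_, l, ?_, e⟩
  · rw [half_pos_fJ] at hv; exact hv
  · rw [half_zero_fJ] at hl; exact hl

theorem T_le_cj_inv {w : W} {k : Y} (hk : Rp cs R.nsys w k) {F : Subgroup Y} (hTF : T ≤ F) : T ≤ cj k⁻¹ F := by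
  rw [← cj_T R hk.inv]
  exact cj_mono _ hTF

/-- The Levi decomposition, conjugated by `k` in the torus normaliser. -/
theorem levi_conj [Finite W] [Finite Y] [hp : Fact p.Prime] {z : I → Y} (D : TD cs h T X z) (J : Set I)
    {w : W} {k : Y} (hk : Rp cs R.nsys w k)
    {F : Subgroup Y} (hTF : T ≤ F) (hF : F ≤ cj k (PJ cs h T X J)) {y : Y} (hy : y ∈ F) :
    ∃ v ∈ F ⊓ cj k (VJ cs h X J), ∃ l ∈ F ⊓ cj k (LJ cs h T X J), y = v * l := by
  obtain ⟨v, hv, l, hl, e⟩ := levi_J R D J (F := cj k⁻¹ F) (T_le_cj_inv R hk hTF) (cj_le_iff.1 hF)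
    (y := k⁻¹ * y * k) (by
      rw [mem_cj, inv_inv]
      have : k * (k⁻¹ * y * k) * k⁻¹ = y := by group
      rwa [this])
  have hv1 := (Subgroup.mem_inf.1 hv).1
  have hl1 := (Subgroup.mem_inf.1 hl).1
  rw [mem_cj, inv_inv] at hv1 hl1
  refine ⟨k * v * k⁻¹, Subgroup.mem_inf.2 ⟨hv1, conj_mem_cj.2 (Subgroup.mem_inf.1 hv).2⟩,
    k * l * k⁻¹, Subgroup.mem_inf.2 ⟨hl1, conj_mem_cj.2 (Subgroup.mem_inf.1 hl).2⟩, ?_⟩
  calc y = k * (k⁻¹ * y * k) * k⁻¹ := by group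
    _ = _ := by rw [e]; group

/-- **Borel–Tits in standard position.** -/
theorem bt_std [Finite W] {z : I → Y} (D : TD cs h T X z) (hBT : BT p cs h T X) {Q : Subgroup Y}
    (hQG : Q ≤ GG cs h T X) (hQp : IsPGroup p ↥Q) (hQ1 : Q ≠ ⊥) (hT : ∀ t ∈ T, cj t Q = Q) :
    ∃ w k, Rp cs R.nsys w k ∧ ∃ J : Set I, J ≠ Set.univ ∧ Q ≤ cj k (VJ cs h X J) ∧
      ∀ x ∈ GG cs h T X, cj x Q = Q → x ∈ cj k (PJ cs h T X J) := by
  obtain ⟨g, hg, J, hJ, h1, h2⟩ := hBT Q hQG hQp hQ1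
  obtain ⟨w, k, hk, h3⟩ := std_of_T_le R D (fJ_sr_nonneg J) hg (fun t ht => by
    rw [PS_half_fJ]
    exact mem_cj.1 (h2 t (T_le_GG ht) (hT t ht)))
  rw [PS_half_fJ] at h3
  refine ⟨w, k, hk, J, hJ, ?_, fun x hx hxQ => ?_⟩
  · have h4 : cj (k⁻¹ * g) (VJ cs h X J) = VJ cs h X J :=
      mem_normalizer_iff_cj.1 (PJ_le_normalizer_VJ R J h3)
    have h5 : cj g (VJ cs h X J) = cj k (VJ cs h X J) := by
      conv_rhs => rw [← h4, ← cj_mul]
      congr 1
      group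
    rw [← h5]; exact h1
  · have h4 : cj (k⁻¹ * g) (PJ cs h T X J) = PJ cs h T X J := cj_eq_of_mem h3
    have h5 : cj g (PJ cs h T X J) = cj k (PJ cs h T X J) := by
      conv_rhs => rw [← h4, ← cj_mul]
      congr 1
      group
    rw [← h5]; exact h2 x hx hxQ

/-- **`T`-invariant `p`-subgroups are products of root groups.** -/
theorem prod_inv [Finite W] [Finite Y] [hp : Fact p.Prime] {z : I → Y} (D : TD cs h T X z) (hBT : BT p cs h T X)
    {Q : Subgroup Y} (hQG : Q ≤ GG cs h T X) (hQp : IsPGroup p ↥Q) (hT : ∀ t ∈ T, cj t Q = Q) :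
    Q = RGD.Sup X (RS cs h X Q) := by
  apply le_antisymm
  · by_cases hQ1 : Q = ⊥
    · conv_lhs => rw [hQ1]
      exact bot_le
    obtain ⟨w, k, hk, J, -, h1, -⟩ := bt_std R D hBT hQG hQp hQ1 hT
    have h2 := prod_pos R D hk (Q := Q) (le_trans h1 (cj_mono k (VJ_le_U J))) (fun t ht => (hT t ht).le)
    conv_lhs => rw [h2]
    exact RGD.Sup_mono (S := {x | x ∈ RS cs h X Q ∧ 0 ≤ rep cs h w⁻¹ x}) fun x hx => hx.1
  · exact RGD.Sup_le fun x hx => hx.2

/-- **An overgroup of `T` with a normal `p`-subgroup `≠ 1` splits.** -/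
theorem levi_split [Finite W] [Finite Y] [hp : Fact p.Prime] {z : I → Y} (D : TD cs h T X z) (hBT : BT p cs h T X)
    {F Q : Subgroup Y} (hTF : T ≤ F) (hFG : F ≤ GG cs h T X) (hQF : Q ≤ F) (hQp : IsPGroup p ↥Q) (hQ1 : Q ≠ ⊥)
    (hn : ∀ x ∈ F, cj x Q = Q) :
    ∃ V L : Subgroup Y, V ≤ F ∧ L ≤ F ∧ T ≤ L ∧ IsPGroup p ↥V ∧ Q ≤ V ∧ V ⊓ L = ⊥ ∧
      (∀ x ∈ F, cj x V = V) ∧ ∀ y ∈ F, ∃ v ∈ V, ∃ l ∈ L, y = v * l := by
  obtain ⟨w, k, hk, J, hJ, h1, h2⟩ := bt_std R D hBT (le_trans hQF hFG) hQp hQ1 (fun t ht => hn t (hTF ht))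
  have hF : F ≤ cj k (PJ cs h T X J) := fun x hx => h2 x (hFG hx) (hn x hx)
  refine ⟨F ⊓ cj k (VJ cs h X J), F ⊓ cj k (LJ cs h T X J), inf_le_left, inf_le_left, ?_, ?_, ?_, ?_, ?_,
    fun y hy => levi_conj R D J hk hTF hF hy⟩
  · exact le_inf hTF (le_trans (cj_T R hk).ge (cj_mono k T_le_LJ))
  · have h3 : IsPGroup p ↥(cj k (VJ cs h X J)) := (R.isPGroup_Upos.to_le (VJ_le_U J)).map _
    exact h3.to_le inf_le_right
  · exact le_inf hQF h1
  · rw [Subgroup.eq_bot_iff_forall]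
    intro u hu
    have h3 := mem_cj.1 (Subgroup.mem_inf.1 (Subgroup.mem_inf.1 hu).1).2
    have h4 := mem_cj.1 (Subgroup.mem_inf.1 (Subgroup.mem_inf.1 hu).2).2
    have h5 := eq_one_of_mem_LJ_of_mem_VJ R h4 h3
    have : u = k * (k⁻¹ * u * k) * k⁻¹ := by group
    rw [this, h5]; group
  · intro x hx
    have h3 : cj x F = F := cj_eq_of_mem hx
    have h4 : cj x (cj k (VJ cs h X J)) = cj k (VJ cs h X J) := by
      have h5 := mem_normalizer_iff_cj.1 (PJ_le_normalizer_VJ R J (mem_cj.1 (hF hx)))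
      conv_rhs => rw [← h5, ← cj_mul]
      rw [← cj_mul]
      congr 1
      group
    apply le_antisymm
    · intro u hu
      rw [mem_cj] at hu
      refine Subgroup.mem_inf.2 ⟨?_, ?_⟩
      · rw [← h3]; exact mem_cj.2 (Subgroup.mem_inf.1 hu).1
      · rw [← h4]; exact mem_cj.2 (Subgroup.mem_inf.1 hu).2
    · intro u hu
      rw [mem_cj]
      have h6 : u ∈ cj x F := by rw [h3]; exact (Subgroup.mem_inf.1 hu).1
      have h7 : u ∈ cj x (cj k (VJ cs h X J)) := by rw [h4]; exact (Subgroup.mem_inf.1 hu).2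
      exact Subgroup.mem_inf.2 ⟨mem_cj.1 h6, mem_cj.1 h7⟩

/-- **The normaliser of `T` permutes the root groups.** -/
theorem conj_root [Finite W] [Finite Y] [hp : Fact p.Prime] {z : I → Y} (D : TD cs h T X z) (hBT : BT p cs h T X)
    (hcard : ∀ x y, IsRoot cs h x → IsRoot cs h y → Nat.card (X x) ≤ Nat.card (X y))
    {g : Y} (hg : g ∈ GG cs h T X) (hgT : cj g T = T) {x : I → ℤ} (hx : IsRoot cs h x) :
    ∃ y, IsRoot cs h y ∧ cj g (X x) = X y := by
  have hXp : ∀ x, IsRoot cs h x → IsPGroup p ↥(X x) := by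
    rintro _ ⟨w, i, rfl⟩
    obtain ⟨k, hk⟩ := exists_rp cs R.nsys w
    rw [← R.conj_rp hk (isRoot_sr cs h i)]
    exact (R.pgrp i).map _
  have hgG : cj g (GG cs h T X) = GG cs h T X := cj_eq_of_mem hg
  have h1 := prod_inv R D hBT (Q := cj g (X x)) (by rw [← hgG]; exact cj_mono g (X_le_GG hx))
    ((hXp x hx).map _) (by
      intro t ht
      have ht' : g⁻¹ * t * g ∈ T := by
        have : t ∈ cj g T := by rw [hgT]; exact ht
        exact mem_cj.1 this
      have h2 : cj t (cj g (X x)) = cj g (cj (g⁻¹ * t * g) (X x)) := by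
        rw [← cj_mul, ← cj_mul]; congr 1; group
      rw [h2, R.tor x hx _ ht'])
  have hne : cj g (X x) ≠ ⊥ := by
    intro h0
    apply X_ne_bot R hx
    have := congrArg (cj g⁻¹) h0
    rw [cj_inv_cj] at this
    rw [this]
    exact Subgroup.map_bot _
  obtain ⟨y, hy⟩ : (RS cs h X (cj g (X x))).Nonempty := by
    rw [Set.nonempty_iff_ne_empty]
    intro h0
    rw [h0, Sup_empty] at h1
    exact hne h1
  refine ⟨y, hy.1, (Subgroup.eq_of_le_of_card_ge hy.2 ?_).symm⟩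
  have h2 : Nat.card (cj g (X x)) = Nat.card (X x) :=
    (Nat.card_congr ((X x).equivMapOfInjective (MulAut.conj g).toMonoidHom (MulAut.conj g).injective).toEquiv).symm
  rw [h2]
  exact hcard x y hx hy.1

end

end Cfsg.Agent.H460.OT
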