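import Mathlib
import Cfsg.Agent.Nodes.RGDChev

/-!
helper460 (S2539, layer 0): the multiples of the fundamental coweights in the coroot lattice.
`exists_cow` : for every tabulated datum and `i < rank` there are `m`, `b` with
`∑ j, b j * A_{p_j, s} = m * (coefficient of s at p_i)` for all roots `s`, `0 < m`, and `|m * rt s i| ≤ 9`.
-/

set_option autoImplicit false

namespace Cfsg.Agent.H460.OT

open Cfsg.Lie Cfsg.Agent.ChevalleyStructure Cfsg.Agent.ChevalleyStructure.Elts Cfsg.Agent.ChevalleyStructure.RootVec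
  Cfsg.Agent.ChevalleyStructure.RootVecTab Cfsg.Agent.Nodes.RGDChev

/-- the table -/
def cowOK (D : ChevalleyDatum) (m : ℤ) (B : List (List ℤ)) : Bool :=
  (List.range D.rank).all fun i => (List.range D.rank).all fun k =>
    ((List.range D.rank).map fun j => (B.getD i []).getD j 0 * D.cartan j (D.simple k)).sum ==
      (if i = k then m else 0)

def bndOK (D : ChevalleyDatum) (c : ℕ) : Bool :=
  (List.range D.nroots).all fun r => (List.range D.rank).all fun i =>
    Nat.ble (8 - c) (dig (code D r) i) && Nat.ble (dig (code D r) i) (8 + c)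

def BG2 : List (List ℤ) := [[2, 3], [1, 2]]
def BB2 : List (List ℤ) := [[2, 2], [1, 2]]
def BD4 : List (List ℤ) := [[2, 2, 1, 1], [2, 4, 2, 2], [1, 2, 2, 1], [1, 2, 1, 2]]
def BF4 : List (List ℤ) := [[2, 3, 4, 2], [3, 6, 8, 4], [2, 4, 6, 3], [1, 2, 3, 2]]
def BE6 : List (List ℤ) := [[4, 3, 5, 6, 4, 2], [3, 6, 6, 9, 6, 3], [5, 6, 10, 12, 8, 4], [6, 9, 12, 18, 12, 6],
  [4, 6, 8, 12, 10, 5], [2, 3, 4, 6, 5, 4]]
def BE7 : List (List ℤ) := [[4, 4, 6, 8, 6, 4, 2], [4, 7, 8, 12, 9, 6, 3], [6, 8, 12, 16, 12, 8, 4],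
  [8, 12, 16, 24, 18, 12, 6], [6, 9, 12, 18, 15, 10, 5], [4, 6, 8, 12, 10, 8, 4], [2, 3, 4, 6, 5, 4, 3]]
def BE8 : List (List ℤ) := [[4, 5, 7, 10, 8, 6, 4, 2], [5, 8, 10, 15, 12, 9, 6, 3], [7, 10, 14, 20, 16, 12, 8, 4],
  [10, 15, 20, 30, 24, 18, 12, 6], [8, 12, 16, 24, 20, 15, 10, 5], [6, 9, 12, 18, 15, 12, 8, 4],
  [4, 6, 8, 12, 10, 8, 6, 3], [2, 3, 4, 6, 5, 4, 3, 2]]

theorem cow_of_ok {D : ChevalleyDatum} (h : Checked D) {m : ℤ} {B : List (List ℤ)} {c : ℕ} (hm : 0 < m)
    (hB : cowOK D m B = true) (hc : bndOK D c = true) (hmc : m * c ≤ 9) (hc8 : c ≤ 8) {i : ℕ} (hi : i < D.rank) :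
    ∃ (m : ℤ) (b : ℕ → ℤ), 0 < m ∧ ∀ s < D.nroots,
      ∑ j ∈ Finset.range D.rank, b j * D.cartan j s = m * rt D s i ∧ |m * rt D s i| ≤ 9 := by
  refine ⟨m, fun j => (B.getD i []).getD j 0, hm, fun s hs => ⟨?_, ?_⟩⟩
  · have h1 : ∀ k < D.rank, ∑ j ∈ Finset.range D.rank, (B.getD i []).getD j 0 * D.cartan j (D.simple k) =
        if i = k then m else 0 := by
      intro k hk
      have h2 := List.all_eq_true.mp (List.all_eq_true.mp hB i (List.mem_range.2 hi)) k (List.mem_range.2 hk)
      have h3 := beq_iff_eq.1 h2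
      rw [← h3, ← List.sum_toFinset _ List.nodup_range, List.toFinset_range]
    calc ∑ j ∈ Finset.range D.rank, (B.getD i []).getD j 0 * D.cartan j s
        = ∑ j ∈ Finset.range D.rank, (B.getD i []).getD j 0 *
            ∑ k ∈ Finset.range D.rank, rt D s k * D.cartan j (D.simple k) := by
          refine Finset.sum_congr rfl fun j hj => ?_
          rw [cartan_eq_sum h (Finset.mem_range.1 hj) hs]
      _ = ∑ k ∈ Finset.range D.rank, rt D s k *
            ∑ j ∈ Finset.range D.rank, (B.getD i []).getD j 0 * D.cartan j (D.simple k) := by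
          simp only [Finset.mul_sum]
          rw [Finset.sum_comm]
          refine Finset.sum_congr rfl fun k _ => Finset.sum_congr rfl fun j _ => by ring
      _ = ∑ k ∈ Finset.range D.rank, rt D s k * (if i = k then m else 0) :=
          Finset.sum_congr rfl fun k hk => by rw [h1 k (Finset.mem_range.1 hk)]
      _ = m * rt D s i := by
          rw [Finset.sum_eq_single i]
          · rw [if_pos rfl, mul_comm]
          · intro k _ hk
            rw [if_neg (Ne.symm hk), mul_zero]
          · intro h2; exact absurd (Finset.mem_range.2 hi) h2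
  · have h1 : |rt D s i| ≤ c := by
      rw [rt_of_lt hs hi]
      have h2 := List.all_eq_true.mp (List.all_eq_true.mp hc s (List.mem_range.2 hs)) (D.rank - 1 - i)
        (List.mem_range.2 (by omega))
      rw [Bool.and_eq_true, Nat.ble_eq, Nat.ble_eq] at h2
      rw [abs_le]
      constructor <;> omega
    rw [abs_mul, abs_of_pos hm]
    calc m * |rt D s i| ≤ m * c := by nlinarith
      _ ≤ 9 := hmc

theorem exists_cow {D : ChevalleyDatum} (hD : InList D) {i : ℕ} (hi : i < D.rank) :
    ∃ (m : ℤ) (b : ℕ → ℤ), 0 < m ∧ ∀ s < D.nroots,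
      ∑ j ∈ Finset.range D.rank, b j * D.cartan j s = m * rt D s i ∧ |m * rt D s i| ≤ 9 := by
  have h := checked_of_mem hD
  simp only [InList, List.mem_cons, List.not_mem_nil, or_false] at hD
  rcases hD with rfl | rfl | rfl | rfl | rfl | rfl | rfl
  · exact cow_of_ok h (m := 1) (B := BG2) (c := 3) (by norm_num) (by decide +kernel) (by decide +kernel)
      (by norm_num) (by norm_num) hi
  · exact cow_of_ok h (m := 2) (B := BB2) (c := 2) (by norm_num) (by decide +kernel) (by decide +kernel)
      (by norm_num) (by norm_num) hi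
  · exact cow_of_ok h (m := 2) (B := BD4) (c := 2) (by norm_num) (by decide +kernel) (by decide +kernel)
      (by norm_num) (by norm_num) hi
  · exact cow_of_ok h (m := 1) (B := BF4) (c := 4) (by norm_num) (by decide +kernel) (by decide +kernel)
      (by norm_num) (by norm_num) hi
  · exact cow_of_ok h (m := 3) (B := BE6) (c := 3) (by norm_num) (by decide +kernel) (by decide +kernel)
      (by norm_num) (by norm_num) hi
  · exact cow_of_ok h (m := 2) (B := BE7) (c := 4) (by norm_num) (by decide +kernel) (by decide +kernel)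
      (by norm_num) (by norm_num) hi
  · exact cow_of_ok h (m := 1) (B := BE8) (c := 6) (by norm_num) (by decide +kernel) (by decide +kernel)
      (by norm_num) (by norm_num) hi

end Cfsg.Agent.H460.OT
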