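import Mathlib
import Cfsg.Agent.H460.OT.TabZ
import Cfsg.Agent.H460.OT.Prod
import Cfsg.Agent.S1032

/-!
helper460 (S2539, layer 0): the torus of `D.group K`, `|K| ≥ 13`, is large: `td`.
-/

set_option autoImplicit false
set_option linter.unusedSectionVars false

namespace Cfsg.Agent.H460.OT

open CoxeterSystem Cfsg.Agent.ChevalleyStructure.CoxeterGeom Cfsg.Agent.Tits.Roots Cfsg.Agent.Tits.Core
  Cfsg.Agent.Tits.RootComb Cfsg.Agent.Nodes.Comb Cfsg.Agent.Nodes.Reps Cfsg.Agent.Nodes.BNOf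
open Cfsg.Lie Cfsg.Agent.ChevalleyStructure Cfsg.Agent.ChevalleyStructure.Elts
  Cfsg.Agent.ChevalleyStructure.RootVec Cfsg.Agent.ChevalleyStructure.RootVecTab
  Cfsg.Agent.ChevalleyStructure.NPerm Cfsg.Agent.ChevalleyStructure.CoxeterGeomTypes
open Cfsg.Agent.Nodes Cfsg.Agent.Nodes.RGDChev
open scoped commutatorElement

universe u

/-- sums of two squares in finite fields -/
theorem two_sq {F : Type*} [Field F] [Finite F] (x : F) : ∃ a b : F, a ^ 2 + b ^ 2 = x := by
  classical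
  have := Fintype.ofFinite F
  by_cases h2 : ringChar F = 2
  · obtain ⟨a, ha⟩ := FiniteField.isSquare_of_char_two h2 x
    exact ⟨a, 0, by rw [ha]; ring⟩
  · have hodd : Fintype.card F % 2 = 1 := FiniteField.odd_card_of_char_ne_two h2
    obtain ⟨a, b, hab⟩ : ∃ a b, (Polynomial.X ^ 2 : Polynomial F).eval a +
        (Polynomial.X ^ 2 - Polynomial.C x : Polynomial F).eval b = 0 :=
      FiniteField.exists_root_sum_quadratic (Polynomial.degree_X_pow 2)
        (Polynomial.degree_X_pow_sub_C (by decide) _) hodd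
    refine ⟨a, b, ?_⟩
    rw [← sub_eq_zero]
    simpa only [Polynomial.eval_C, Polynomial.eval_X, Polynomial.eval_pow, Polynomial.eval_sub,
      ← add_sub_assoc] using hab

section Ab

variable {I W Y : Type*} [Fintype I] [DecidableEq I] [Group W] [Group Y] {M : CoxeterMatrix I}
  {cs : CoxeterSystem M W} {A : I → I → ℤ} {h : IsCartan M A} {p : ℕ} {T : Subgroup Y} {n : I → Y}
  {X : (I → ℤ) → Subgroup Y}

/-- irreducibility of the simple root groups is enough -/
theorem irr_of_sr (R : RGD cs h p T n X)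
    (hirr : ∀ i, ∀ Q : Subgroup Y, Q ≤ X (sr i) → Q ≠ ⊥ → (∀ t ∈ T, cj t Q ≤ Q) → Q = X (sr i)) :
    ∀ x, IsRoot cs h x → ∀ Q : Subgroup Y, Q ≤ X x → Q ≠ ⊥ → (∀ t ∈ T, cj t Q ≤ Q) → Q = X x := by
  rintro _ ⟨w, i, rfl⟩ Q hQ hne hT
  obtain ⟨k, hk⟩ := exists_rp cs R.nsys w
  have h1 : cj k⁻¹ (X (rep cs h w (sr i))) = X (sr i) := by
    rw [R.conj_rp hk.inv ⟨w, i, rfl⟩, rep_inv_apply]
  have h2 := hirr i (cj k⁻¹ Q) (by rw [← h1]; exact cj_mono _ hQ) (by
    intro h0
    apply hne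
    have h3 := congrArg (cj k) h0
    rw [cj_cj_inv] at h3
    rw [h3]
    exact Subgroup.map_bot _) (by
    intro t ht
    have h2 : k * t * k⁻¹ ∈ T := ((Subgroup.mem_normalizer_iff.1 hk.mem_normalizer) t).1 ht
    have h3 : cj t (cj k⁻¹ Q) = cj k⁻¹ (cj (k * t * k⁻¹) Q) := by
      rw [← cj_mul, ← cj_mul]; congr 1; group
    rw [h3]
    exact cj_mono _ (hT _ h2))
  have h3 := congrArg (cj k) h2
  rwa [cj_cj_inv, ← h1, cj_cj_inv] at h3

end Ab

section Conc

variable {D : ChevalleyDatum} {K : Type u} [Field K]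

/-- products of the `h_p(c)` -/
theorem exists_torus_elt (hD : InList D) (b : ℕ → ℤ) {c : K} (hc : c ≠ 0) : ∀ n, n ≤ D.rank →
    ∃ z ∈ D.diagonalSubgroup K, (z : Matrix D.Idx D.Idx K) =
      TorusConj.torus D K (fun s => ∑ j ∈ Finset.range n, b j * D.cartan j s) c := by
  intro n
  induction n with
  | zero =>
    intro _
    refine ⟨1, one_mem _, ?_⟩
    rw [TorusConj.torus_def, Units.val_one, ← Matrix.diagonal_one]
    congr 1
    funext i
    rcases i with i | i
    · rfl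
    · simp
  | succ n ih =>
    intro hn
    obtain ⟨z, hz, e⟩ := ih (by omega)
    have hcb : c ^ b n ≠ 0 := zpow_ne_zero _ hc
    refine ⟨z * hG hD (D.simple n) (c ^ b n), mul_mem hz (hG_mem_diagonal hD
      (RootVec.simple_lt (checked_of_mem hD) (by omega)) hcb), ?_⟩
    rw [Units.val_mul, e, coe_hG, Cfsg.Agent.S1033.result D hD n (by omega) _ hcb, TorusConj.torus_def,
      TorusConj.torus_def, Matrix.diagonal_mul_diagonal]
    congr 1
    funext i
    rcases i with i | i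
    · simp
    · simp only [Sum.elim_inr]
      rw [Finset.sum_range_succ, zpow_add₀ hc, ← zpow_mul]

/-- the element `z_i(c)` acting on `e_s` by `c ^ (m * s_i)`, `|m s_i| ≤ 9` -/
theorem exists_z (hD : InList D) {c : K} (hc : c ≠ 0) {i : ℕ} (hi : i < D.rank) :
    ∃ z ∈ D.diagonalSubgroup K, ∃ m : ℤ, 0 < m ∧ (∀ s < D.nroots, |m * rt D s i| ≤ 9) ∧
      ∀ s < D.nroots, ∀ t : K, z * xG hD s t = xG hD s (c ^ (m * rt D s i) * t) * z := by
  have h := checked_of_mem hD
  obtain ⟨m, b, hm, hb⟩ := exists_cow hD hi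
  obtain ⟨z, hz, e⟩ := exists_torus_elt hD b hc D.rank le_rfl
  refine ⟨z, hz, m, hm, fun s hs => (hb s hs).2, fun s hs t => ?_⟩
  apply Units.ext
  rw [Units.val_mul, Units.val_mul, coe_xG, coe_xG]
  have e' : (z : Matrix D.Idx D.Idx K) = TorusConj.torus D K (fun s => m * rt D s i) c := by
    rw [e, TorusConj.torus_def, TorusConj.torus_def]
    congr 1
    funext j
    rcases j with j | j
    · rfl
    · simp only [Sum.elim_inr]
      rw [(hb j.val j.isLt).1]
  rw [e']
  refine TorusConj.torus_mul_x h ?_ hc s t hs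
  refine ⟨fun j => if j = i then m else 0, fun s _ => ?_⟩
  simp only [ite_mul, zero_mul]
  rw [Finset.sum_ite_eq' (Finset.range D.rank) i (fun j => m * rt D s j), if_pos (Finset.mem_range.2 hi)]

theorem diag_comm (hD : InList D) {s t : GL D.Idx K} (hs : s ∈ D.diagonalSubgroup K)
    (ht : t ∈ D.diagonalSubgroup K) : s * t = t * s := by
  obtain ⟨χ, h1⟩ := HMatDiagAll.diagonalSubgroup_le_torus hD hs
  obtain ⟨ψ, h2⟩ := HMatDiagAll.diagonalSubgroup_le_torus hD ht
  apply Units.ext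
  rw [Units.val_mul, Units.val_mul, h1, h2, Matrix.diagonal_mul_diagonal, Matrix.diagonal_mul_diagonal]
  congr 1
  funext i
  exact mul_comm _ _

theorem irr_simple (hD : InList D) [Finite K] {i : ℕ} (hi : i < D.rank) {Q : Subgroup (GL D.Idx K)}
    (hQ : Q ≤ D.rootSubgroup K (D.simple i)) (hne : Q ≠ ⊥) (hT : ∀ t ∈ D.diagonalSubgroup K, cj t Q ≤ Q) :
    Q = D.rootSubgroup K (D.simple i) := by
  have h := checked_of_mem hD
  have hr := RootVec.simple_lt h hi
  refine le_antisymm hQ ?_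
  obtain ⟨⟨g, hg⟩, hg1⟩ := (Subgroup.ne_bot_iff_exists_ne_one).1 hne
  obtain ⟨t0, rfl⟩ := (mem_rootSubgroup_iff hD _ g).1 (hQ hg)
  have ht0 : t0 ≠ 0 := by
    rintro rfl
    exact hg1 (Subtype.ext (xG_zero hD _))
  have hsq : ∀ c : K, xG hD (D.simple i) (c ^ 2 * t0) ∈ Q := by
    intro c
    by_cases hc : c = 0
    · rw [hc, zero_pow (two_ne_zero), zero_mul, xG_zero]; exact one_mem _
    · have h1 := hT (hG hD (D.simple i) c) (hG_mem_diagonal hD hr hc) (conj_mem_cj.2 hg)
      have h2 : hG hD (D.simple i) c * xG hD (D.simple i) t0 =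
          xG hD (D.simple i) (c ^ 2 * t0) * hG hD (D.simple i) c := by
        apply Units.ext
        rw [Units.val_mul, Units.val_mul, coe_xG, coe_xG, coe_hG,
          Cfsg.Agent.S1032.result D hD i (D.simple i) hi hr c hc t0, cartan_simple_self h hi]
        have : c ^ (2 : ℤ) = c ^ (2 : ℕ) := zpow_natCast c 2
        rw [this]
      rw [h2] at h1
      have h3 : xG hD (D.simple i) (c ^ 2 * t0) * hG hD (D.simple i) c * (hG hD (D.simple i) c)⁻¹ =
          xG hD (D.simple i) (c ^ 2 * t0) := by group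
      rwa [h3] at h1
  intro g' hg'
  obtain ⟨a, rfl⟩ := (mem_rootSubgroup_iff hD _ g').1 hg'
  obtain ⟨c, d, hcd⟩ := two_sq (a / t0)
  have h1 : a = c ^ 2 * t0 + d ^ 2 * t0 := by
    rw [← add_mul, hcd, div_mul_cancel₀ _ ht0]
  rw [h1, ← xG_add]
  exact mul_mem (hsq c) (hsq d)

/-- **The torus of `D.group K` is large.** -/
theorem td {l : ℕ} {M : CoxeterMatrix (Fin l)} (hp : IsType D l M) {W : Type*} [Group W] (cs : CoxeterSystem M W)
    [Finite K] (p : ℕ) [Fact p.Prime] [CharP K p] (hK : 13 ≤ Nat.card K) :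
    ∃ z : Fin l → GL D.Idx K, TD cs hp.isCartan (D.diagonalSubgroup K) (XV D l K) z := by
  classical
  have := Fintype.ofFinite K
  obtain ⟨c, hc⟩ := IsCyclic.exists_generator (α := Kˣ)
  have hord : orderOf c = Nat.card K - 1 := by
    rw [orderOf_eq_card_of_forall_mem_zpowers hc, Nat.card_units]
  have hpow : ∀ e : ℤ, (c : K) ^ e = 1 → |e| ≤ 9 → e = 0 := by
    intro e he hle
    have h1 : c ^ e = 1 := Units.ext (by rw [Units.val_zpow_eq_zpow_val, he, Units.val_one])
    have h2 : (orderOf c : ℤ) ∣ e := orderOf_dvd_iff_zpow_eq_one.2 h1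
    by_contra h0
    have h3 : (orderOf c : ℤ) ≤ |e| := Int.le_of_dvd (abs_pos.2 h0) ((dvd_abs _ _).2 h2)
    rw [hord] at h3
    omega
  have h1 : ∀ i : Fin l, ∃ z ∈ D.diagonalSubgroup K, ∃ m : ℤ, 0 < m ∧ (∀ s < D.nroots, |m * rt D s i| ≤ 9) ∧
      ∀ s < D.nroots, ∀ t : K, z * xG hp.inList s t = xG hp.inList s ((c : K) ^ (m * rt D s i) * t) * z :=
    fun i => exists_z hp.inList (Units.ne_zero c) (lt_rank hp i)
  choose z hz m hm hb hzx using h1
  refine ⟨z, fun s hs t ht => diag_comm hp.inList hs ht, hz, ?_, ?_, ?_⟩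
  · intro i x hx hx0 u hu
    obtain ⟨r, hr, rfl⟩ := (isRoot_iff hp cs x).1 hx
    rw [XV_vec hp K hr, mem_rootSubgroup_iff hp.inList] at hu
    obtain ⟨t, rfl⟩ := hu
    rw [vec_apply] at hx0
    rw [hzx i r hr t, hx0, mul_zero, zpow_zero, one_mul]
  · intro i x hx hx0 u hu he
    obtain ⟨r, hr, rfl⟩ := (isRoot_iff hp cs x).1 hx
    rw [XV_vec hp K hr, mem_rootSubgroup_iff hp.inList] at hu
    obtain ⟨t, rfl⟩ := hu
    rw [vec_apply] at hx0
    rw [hzx i r hr t] at he
    have h2 := xG_injective hp.inList hr (mul_right_cancel he)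
    by_contra h3
    have ht : t ≠ 0 := by
      rintro rfl
      exact h3 (xG_zero hp.inList _)
    have h4 : (c : K) ^ (m i * rt D r i) = 1 := by
      have : (c : K) ^ (m i * rt D r i) * t = 1 * t := by rw [one_mul]; exact h2
      exact mul_right_cancel₀ ht this
    have h5 := hpow _ h4 (hb i r hr)
    rcases mul_eq_zero.1 h5 with h6 | h6
    · exact absurd h6 (hm i).ne'
    · exact hx0 h6
  · refine irr_of_sr (rgd_GL (K := K) hp cs p) ?_
    intro i Q hQ hne hT
    rw [XV_sr hp] at hQ ⊢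
    exact irr_simple hp.inList (lt_rank hp i) hQ hne hT

end Conc

end Cfsg.Agent.H460.OT
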