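import Mathlib
import Cfsg.Agent.H460.OT.Abs
import Cfsg.Agent.H460.OT.Tor
import Cfsg.Agent.KFacts.RgdFiltChev
import Cfsg.Agent.Nodes.RGDLib

/-!
helper460 (S2539, layer 0), concrete form in `GL D.Idx K`, `|K| ≥ 13`, `D` one of the seven tabulated data.

* `inv_pgroup` : a `p`-subgroup of `D.group K` normalised by `T = D.diagonalSubgroup K` is generated by the root
  subgroups it contains;
* `overgroup_split` : `T ≤ F ≤ D.group K`, `Q ≠ 1` a normal `p`-subgroup of `F`: `F = V L`, `Q ≤ V ⊴ F` a `p`-group,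
  `T ≤ L`, `V ∩ L = 1`;
* `conj_rootSubgroup` : the normaliser of `T` in `D.group K` permutes the root subgroups.
-/

set_option autoImplicit false
set_option linter.unusedSectionVars false

namespace Cfsg.Agent.H460.OT

open CoxeterSystem Cfsg.Agent.ChevalleyStructure.CoxeterGeom Cfsg.Agent.Tits.Roots Cfsg.Agent.Tits.Core
  Cfsg.Agent.Tits.RootComb Cfsg.Agent.Tits.Exchange Cfsg.Agent.Nodes.Reps Cfsg.Agent.Nodes.BNOf
  Cfsg.Agent.Nodes.StabComb Cfsg.Agent.Nodes.Bruhat Cfsg.Agent.Nodes.OppDec Cfsg.Agent.Nodes.LeviDec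
  Cfsg.Agent.KFacts.RgdPar Cfsg.Agent.KFacts.RgdBorelTits
open Cfsg.Lie Cfsg.Agent.ChevalleyStructure Cfsg.Agent.ChevalleyStructure.Elts
  Cfsg.Agent.ChevalleyStructure.RootVec Cfsg.Agent.ChevalleyStructure.RootVecTab
  Cfsg.Agent.ChevalleyStructure.NPerm Cfsg.Agent.ChevalleyStructure.CoxeterGeomTypes
open Cfsg.Agent.Nodes Cfsg.Agent.Nodes.RGDChev

universe u

section Abs

variable {I W Y : Type*} [Fintype I] [DecidableEq I] [Group W] [Group Y] {M : CoxeterMatrix I}
  {cs : CoxeterSystem M W} {A : I → I → ℤ} {h : IsCartan M A} {T : Subgroup Y}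
  {X : (I → ℤ) → Subgroup Y}

theorem map_Sup_le (G : Subgroup Y) (S : Set (I → ℤ)) :
    (RGD.Sup (fun x => (X x).subgroupOf G) S).map G.subtype ≤ RGD.Sup X S := by
  rw [Subgroup.map_le_iff_le_comap]
  refine RGD.Sup_le fun x hx => ?_
  intro g hg
  exact RGD.le_Sup hx (Subgroup.mem_subgroupOf.1 hg)

theorem map_PJ_le (G : Subgroup Y) (J : Set I) :
    (PJ cs h (T.subgroupOf G) (fun x => (X x).subgroupOf G) J).map G.subtype ≤ PJ cs h T X J := by
  unfold PJ LJ
  rw [Subgroup.map_sup, Subgroup.map_sup]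
  refine sup_le_sup (sup_le_sup ?_ (map_Sup_le G _)) (map_Sup_le G _)
  rw [Subgroup.map_le_iff_le_comap]
  intro g hg
  exact Subgroup.mem_subgroupOf.1 hg

end Abs

section GLs

variable {D : ChevalleyDatum} {l : ℕ} {M : CoxeterMatrix (Fin l)} (hp : IsType D l M) {K : Type u} [Field K]
  {W : Type*} [Group W] (cs : CoxeterSystem M W)

include hp in
theorem GG_GL : GG cs hp.isCartan (D.diagonalSubgroup K) (XV D l K) = D.group K := by
  apply le_antisymm
  · exact sup_le (diagonal_le_group hp.inList K) (RGD.Sup_le fun x _ => XV_le_group hp x)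
  · rw [group_le_iff hp.inList]
    intro r hr t
    refine X_le_GG (isRoot_vec hp cs hr) ?_
    rw [XV_vec hp K hr]
    exact xG_mem_rootSubgroup hp.inList r t

/-- the Borel–Tits property of `D.group K` -/
theorem bt_GL [Finite K] (p : ℕ) [Fact p.Prime] [CharP K p] :
    BT p cs hp.isCartan (D.diagonalSubgroup K) (XV D l K) := by
  intro U hUG hU hne
  rw [GG_GL hp cs] at hUG
  have : Finite (GL D.Idx K) := inferInstance
  have : Finite ↥(D.group K) := inferInstance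
  have : Finite W := finite_W hp cs
  have hK : IsPGroup p ↥(U.subgroupOf (D.group K)) :=
    hU.comap_of_injective (D.group K).subtype Subtype.val_injective
  have hK1 : U.subgroupOf (D.group K) ≠ ⊥ := by
    rw [Ne, Subgroup.subgroupOf_eq_bot]
    intro h
    apply hne
    rw [eq_bot_iff]
    intro u hu
    exact (Subgroup.disjoint_def.1 h hu (hUG hu)) ▸ Subgroup.one_mem _
  obtain ⟨g, J, hJ, h1, h2⟩ := borel_tits (KFacts.RgdFiltChev.filt (K := K) hp cs p)
    (KFacts.RgdFilt.GG_eq_top (G1_eq_top hp cs)) hK hK1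
  refine ⟨g, ?_, J, hJ, ?_, ?_⟩
  · rw [GG_GL hp cs]; exact g.2
  · intro x hx
    have hx' : (⟨x, hUG hx⟩ : ↥(D.group K)) ∈ U.subgroupOf (D.group K) := hx
    have h3 := mem_cj.1 (h1 hx')
    rw [mem_cj]
    exact map_Sup_le (X := XV D l K) (D.group K) _ ⟨_, h3, rfl⟩
  · intro x hxG hx
    rw [GG_GL hp cs] at hxG
    have hx' : (⟨x, hxG⟩ : ↥(D.group K)) ∈
        Subgroup.normalizer ((U.subgroupOf (D.group K) : Subgroup ↥(D.group K)) : Set ↥(D.group K)) := by
      rw [Subgroup.mem_normalizer_iff]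
      intro y
      rw [Subgroup.mem_subgroupOf, Subgroup.mem_subgroupOf]
      exact (Subgroup.mem_normalizer_iff.1 (mem_normalizer_iff_cj.2 hx)) (y : GL D.Idx K)
    have h3 := mem_cj.1 (h2 hx')
    rw [mem_cj]
    exact map_PJ_le (D.group K) J ⟨_, h3, rfl⟩

end GLs

/-- the types of the data -/
theorem exists_type {D : ChevalleyDatum}
    (hD : D ∈ [chevG2, chevB2, chevD4, chevF4, chevE6, chevE7, chevE8]) :
    ∃ (l : ℕ) (M : CoxeterMatrix (Fin l)), IsType D l M := by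
  simp only [List.mem_cons, List.not_mem_nil, or_false] at hD
  rcases hD with rfl | rfl | rfl | rfl | rfl | rfl | rfl
  · exact ⟨2, CoxeterMatrix.G₂, by simp [IsType, typeList]⟩
  · exact ⟨2, CoxeterMatrix.B 2, by simp [IsType, typeList]⟩
  · exact ⟨4, coxeterD4, by simp [IsType, typeList]⟩
  · exact ⟨4, CoxeterMatrix.F₄, by simp [IsType, typeList]⟩
  · exact ⟨6, CoxeterMatrix.E₆, by simp [IsType, typeList]⟩
  · exact ⟨7, CoxeterMatrix.E₇, by simp [IsType, typeList]⟩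
  · exact ⟨8, CoxeterMatrix.E₈, by simp [IsType, typeList]⟩

section Final

variable {D : ChevalleyDatum} {K : Type u} [Field K] [Finite K] {p : ℕ} [Fact p.Prime] [CharP K p]

theorem Sup_RS {l : ℕ} {M : CoxeterMatrix (Fin l)} (hp : IsType D l M) {W : Type*} [Group W]
    (cs : CoxeterSystem M W) (Q : Subgroup (GL D.Idx K)) :
    RGD.Sup (XV D l K) (RS cs hp.isCartan (XV D l K) Q) =
      ⨆ r ∈ {r : ℕ | r < D.nroots ∧ D.rootSubgroup K r ≤ Q}, D.rootSubgroup K r := by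
  apply le_antisymm
  · refine RGD.Sup_le fun x hx => ?_
    obtain ⟨r, hr, rfl⟩ := (isRoot_iff hp cs x).1 hx.1
    have h1 := hx.2
    rw [XV_vec hp K hr] at h1 ⊢
    exact le_iSup₂ (f := fun r (_ : r ∈ {r : ℕ | r < D.nroots ∧ D.rootSubgroup K r ≤ Q}) => D.rootSubgroup K r)
      r ⟨hr, h1⟩
  · refine iSup₂_le fun r hr => ?_
    rw [← XV_vec hp K hr.1]
    exact RGD.le_Sup (S := RS cs hp.isCartan (XV D l K) Q) ⟨isRoot_vec hp cs hr.1, by
      rw [XV_vec hp K hr.1]; exact hr.2⟩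

/-- **(C1)** A `p`-subgroup of `D.group K` normalised by `T` is generated by its root subgroups. -/
theorem inv_pgroup (hD : D ∈ [chevG2, chevB2, chevD4, chevF4, chevE6, chevE7, chevE8]) (hK : 13 ≤ Nat.card K)
    {Q : Subgroup (GL D.Idx K)} (hQG : Q ≤ D.group K) (hQp : IsPGroup p ↥Q)
    (hT : D.diagonalSubgroup K ≤ Subgroup.normalizer (Q : Set (GL D.Idx K))) :
    Q = ⨆ r ∈ {r : ℕ | r < D.nroots ∧ D.rootSubgroup K r ≤ Q}, D.rootSubgroup K r := by
  obtain ⟨l, M, hp⟩ := exists_type hD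
  have : Finite (GL D.Idx K) := inferInstance
  have : Finite M.Group := finite_W hp M.toCoxeterSystem
  obtain ⟨z, hz⟩ := td hp M.toCoxeterSystem p hK
  have h1 := prod_inv (rgd_GL (K := K) hp M.toCoxeterSystem p) hz (bt_GL hp M.toCoxeterSystem p)
    (Q := Q) (by rw [GG_GL hp]; exact hQG) hQp (fun t ht => mem_normalizer_iff_cj.1 (hT ht))
  rw [Sup_RS hp] at h1
  exact h1

/-- **(C3)** An overgroup of `T` with a normal `p`-subgroup `≠ 1` splits. -/
theorem overgroup_split (hD : D ∈ [chevG2, chevB2, chevD4, chevF4, chevE6, chevE7, chevE8]) (hK : 13 ≤ Nat.card K)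
    {F Q : Subgroup (GL D.Idx K)} (hTF : D.diagonalSubgroup K ≤ F) (hFG : F ≤ D.group K) (hQF : Q ≤ F)
    (hQp : IsPGroup p ↥Q) (hQ1 : Q ≠ ⊥) (hn : F ≤ Subgroup.normalizer (Q : Set (GL D.Idx K))) :
    ∃ V L : Subgroup (GL D.Idx K), V ≤ F ∧ L ≤ F ∧ D.diagonalSubgroup K ≤ L ∧ IsPGroup p ↥V ∧ Q ≤ V ∧
      V ⊓ L = ⊥ ∧ F ≤ Subgroup.normalizer (V : Set (GL D.Idx K)) ∧ ∀ y ∈ F, ∃ v ∈ V, ∃ l ∈ L, y = v * l := by
  obtain ⟨l, M, hp⟩ := exists_type hD
  have : Finite (GL D.Idx K) := inferInstance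
  have : Finite M.Group := finite_W hp M.toCoxeterSystem
  obtain ⟨z, hz⟩ := td hp M.toCoxeterSystem p hK
  obtain ⟨V, L, h1, h2, h3, h4, h5, h6, h7, h8⟩ :=
    levi_split (rgd_GL (K := K) hp M.toCoxeterSystem p) hz (bt_GL hp M.toCoxeterSystem p)
    (Q := Q) hTF (by rw [GG_GL hp]; exact hFG) hQF hQp hQ1 (fun t ht => mem_normalizer_iff_cj.1 (hn ht))
  exact ⟨V, L, h1, h2, h3, h4, h5, h6, fun x hx => mem_normalizer_iff_cj.2 (h7 x hx), h8⟩

theorem card_rootSubgroup (hD : InList D) {r : ℕ} (hr : r < D.nroots) :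
    Nat.card (D.rootSubgroup K r) = Nat.card K := by
  refine Nat.card_congr (Equiv.ofBijective
    (fun g : D.rootSubgroup K r => Classical.choose ((mem_rootSubgroup_iff hD r g.1).1 g.2)) ⟨?_, ?_⟩)
  · intro a b hab
    have h1 := Classical.choose_spec ((mem_rootSubgroup_iff hD r a.1).1 a.2)
    have h2 := Classical.choose_spec ((mem_rootSubgroup_iff hD r b.1).1 b.2)
    apply Subtype.ext
    rw [h1, h2]
    exact congrArg (xG hD r) hab
  · intro t
    refine ⟨⟨xG hD r t, xG_mem_rootSubgroup hD r t⟩, ?_⟩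
    have h1 := Classical.choose_spec ((mem_rootSubgroup_iff hD r (xG hD r t)).1 (xG_mem_rootSubgroup hD r t))
    exact (xG_injective hD hr h1).symm

/-- **(C2)** The normaliser of `T` permutes the root subgroups. -/
theorem conj_rootSubgroup (hD : D ∈ [chevG2, chevB2, chevD4, chevF4, chevE6, chevE7, chevE8])
    (hK : 13 ≤ Nat.card K) {g : GL D.Idx K} (hg : g ∈ D.group K)
    (hgT : g ∈ Subgroup.normalizer (D.diagonalSubgroup K : Set (GL D.Idx K))) {r : ℕ} (hr : r < D.nroots) :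
    ∃ s < D.nroots, (D.rootSubgroup K r).map (MulAut.conj g).toMonoidHom = D.rootSubgroup K s := by
  obtain ⟨l, M, hp⟩ := exists_type hD
  obtain ⟨p, hpc⟩ := CharP.exists K
  have hpp : Fact p.Prime := ⟨CharP.char_is_prime K p⟩
  have : Finite (GL D.Idx K) := inferInstance
  have : Finite M.Group := finite_W hp M.toCoxeterSystem
  obtain ⟨z, hz⟩ := td hp M.toCoxeterSystem p hK
  obtain ⟨y, hy, e⟩ := conj_root (rgd_GL (K := K) hp M.toCoxeterSystem p) hz (bt_GL hp M.toCoxeterSystem p)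
    (fun x y hx hy => by
      obtain ⟨r, hr, rfl⟩ := (isRoot_iff hp _ x).1 hx
      obtain ⟨s, hs, rfl⟩ := (isRoot_iff hp _ y).1 hy
      rw [XV_vec hp K hr, XV_vec hp K hs, card_rootSubgroup hp.inList hr, card_rootSubgroup hp.inList hs])
    (by rw [GG_GL hp]; exact hg) (mem_normalizer_iff_cj.1 hgT) (isRoot_vec hp M.toCoxeterSystem hr)
  obtain ⟨s, hs, rfl⟩ := (isRoot_iff hp _ y).1 hy
  rw [XV_vec hp K hr, XV_vec hp K hs] at e
  exact ⟨s, hs, e⟩

end Final

end Cfsg.Agent.H460.OT
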