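import Mathlib
import Cfsg.Agent.H460.OT.BruGen
import Cfsg.Agent.H460.OT.Conc
import Cfsg.Agent.H412.OT.Defs

/-!
helper460 (S2539, layer 0). The structure of `G(S_F) = GS D K (SF D K F)` for `T ≤ F`, `S_F` closed; concrete form.

* `chainRoot_of_vec` : if `r + s` is a root then it is given by `D.chainRoot r s 1`;
* `GS_struct` : there is a `T`-invariant Sylow `p`-subgroup `P` of `GS D K (SF D K F)`, a product of root subgroups, and
  `GS = P N P`, `N = GS ⊓ N(T)` (Bruhat decomposition);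
* `GS_norm` : `GS ⊓ N(T)` is generated by `T` and the groups `⟨X_r, X_{-r}⟩ ⊓ N(T)`, `±r ∈ S_F`;
* `sylow_of_gen` : a group `E` generated by root subgroups has a `T`-invariant Sylow `p`-subgroup which is a
  product of root subgroups.
-/

set_option autoImplicit false
set_option linter.unusedSectionVars false

namespace Cfsg.Agent.H460.OT

open CoxeterSystem Cfsg.Agent.ChevalleyStructure.CoxeterGeom Cfsg.Agent.Tits.Roots Cfsg.Agent.Tits.Core
  Cfsg.Agent.Tits.RootComb Cfsg.Agent.Tits.Exchange Cfsg.Agent.Nodes.Reps Cfsg.Agent.Nodes.BNOf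
  Cfsg.Agent.Nodes.StabComb Cfsg.Agent.Nodes.Bruhat Cfsg.Agent.Nodes.OppDec Cfsg.Agent.Nodes.LeviDec
  Cfsg.Agent.KFacts.RgdPar Cfsg.Agent.KFacts.RgdBorelTits
open Cfsg.Lie Cfsg.Agent.ChevalleyStructure Cfsg.Agent.ChevalleyStructure.Elts
  Cfsg.Agent.ChevalleyStructure.RootVec Cfsg.Agent.ChevalleyStructure.RootVecTab
  Cfsg.Agent.ChevalleyStructure.NPerm Cfsg.Agent.ChevalleyStructure.CoxeterGeomTypes
open Cfsg.Agent.Nodes Cfsg.Agent.Nodes.RGDChev Cfsg.Agent.H412.OT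

universe u

section Comb

variable {D : ChevalleyDatum} {l : ℕ} {M : CoxeterMatrix (Fin l)} (hp : IsType D l M)

include hp

theorem vec_of_chainRoot {r s u : ℕ} (hu : D.chainRoot r s 1 = some u) :
    u < D.nroots ∧ vec D l u = vec D l s + vec D l r := by
  obtain ⟨h1, -, -, h2⟩ := chainRoot_rt hp.checked (le_refl 1) hu
  refine ⟨h1, funext fun i => ?_⟩
  rw [Pi.add_apply, vec_apply, vec_apply, vec_apply, h2]
  norm_num

theorem cartanR_add {r s u : ℕ} (hr : r < D.nroots) (hs : s < D.nroots) (hu : u < D.nroots)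
    (e : vec D l u = vec D l r + vec D l s) (t : ℕ) :
    Strings.cartanR D t u = Strings.cartanR D t r + Strings.cartanR D t s := by
  unfold Strings.cartanR
  rw [← Finset.sum_add_distrib]
  refine Finset.sum_congr rfl fun i hi => ?_
  have hi' : i < l := by rw [← hp.rank_eq]; exact Finset.mem_range.1 hi
  have h1 := pairing_vec hp ⟨i, hi'⟩ hu
  have h2 := pairing_vec hp ⟨i, hi'⟩ hr
  have h3 := pairing_vec hp ⟨i, hi'⟩ hs
  have h4 : pairing (cartanOf D l) ⟨i, hi'⟩ (vec D l r + vec D l s) =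
      pairing (cartanOf D l) ⟨i, hi'⟩ (vec D l r) + pairing (cartanOf D l) ⟨i, hi'⟩ (vec D l s) := by
    unfold pairing
    rw [← Finset.sum_add_distrib]
    exact Finset.sum_congr rfl fun j _ => by rw [Pi.add_apply, mul_add]
  rw [e, h4, h2, h3] at h1
  show _ * D.cartan i u = _ * D.cartan i r + _ * D.cartan i s
  rw [← mul_add]
  congr 1
  exact h1.symm

theorem chainRoot_up {r q : ℕ} {S : ℕ → ℕ} {E : ℕ → ℤ} (h : Strings.StringAt D r q S E) {k : ℕ} (hk : k < q) :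
    D.chainRoot r (S k) 1 = some (S (k + 1)) := by
  have h1 := h.up k hk.le
  show ((D.chainEntry r (S k))[1 - 1]?).map Prod.fst = _
  rw [h1]
  have h2 : 0 < q - k := by omega
  simp [List.getElem?_map, List.getElem?_range h2]

/-- If `r + s` is a root then `D.chainRoot r s 1` is its index. -/
theorem chainRoot_of_vec (hD : D ∈ [chevG2, chevB2, chevD4, chevF4, chevE6, chevE7, chevE8]) {r s u : ℕ}
    (hr : r < D.nroots) (hs : s < D.nroots) (hu : u < D.nroots)
    (e : vec D l u = vec D l r + vec D l s) : D.chainRoot r s 1 = some u := by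
  have hfin : Finite M.Group := finite_W hp M.toCoxeterSystem
  have hroot : ∀ {t : ℕ}, t < D.nroots → IsRoot M.toCoxeterSystem hp.isCartan (vec D l t) :=
    fun ht => isRoot_vec hp M.toCoxeterSystem ht
  have two : ∀ {t v : ℕ}, t < D.nroots → v < D.nroots → ∀ c : ℤ, vec D l t = c • vec D l v → IsUnit c :=
    fun ht hv c h => isUnit_of_smul _ _ (hroot ht) c h
  have hnr := StringMem.rootOK_of_mem hD hr
  have hvn : vec D l (D.neg r) = -vec D l r := vec_neg hp hr
  have hsr : s ≠ r := by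
    rintro rfl
    have := two hu hs 2 (by rw [e, two_smul])
    exact absurd this (by decide)
  have hsn : s ≠ D.neg r := by
    intro h0
    have h1 : vec D l u = 0 := by rw [e, h0, hvn, add_neg_cancel]
    exact (hroot hu).ne_zero h1
  have hur : u ≠ r := by
    rintro rfl
    have h1 : vec D l s = 0 := by
      have := e
      rwa [left_eq_add] at this
    exact (hroot hs).ne_zero h1
  have hun : u ≠ D.neg r := by
    intro h0
    have h1 : vec D l s = (-2 : ℤ) • vec D l r := by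
      have h2 : vec D l s = vec D l u - vec D l r := by rw [e]; abel
      rw [h2, h0, hvn]
      module
    have := two hs hr (-2) h1
    exact absurd this (by decide)
  have hStr := StringMem.hasStrings_of_mem hD hr
  obtain ⟨q, S, E, k, hst, hk, hSk, hc⟩ := hStr u hu hur hun
  by_cases hk0 : k = 0
  · obtain ⟨q', S', E', k', hst', hk', hSk', hc'⟩ := hStr s hs hsr hsn
    have h1 := cartanR_add hp hr hs hu e r
    rw [hc, hc', hnr.cartan_self, hk0] at h1
    have h2 : k' < q' := by omega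
    have h3 := chainRoot_up hp hst' h2
    rw [hSk'] at h3
    have h4 := vec_of_chainRoot hp h3
    rw [h3]
    congr 1
    refine vec_inj hp h4.1 hu ?_
    rw [h4.2, e, add_comm]
  · have h2 : k - 1 < q := by omega
    have h3 := chainRoot_up hp hst h2
    rw [show k - 1 + 1 = k by omega, hSk] at h3
    have h4 := vec_of_chainRoot hp h3
    have h5 : S (k - 1) = s := by
      refine vec_inj hp (hst.lt _ (by omega)) hs ?_
      have h6 := h4.2
      rw [e, add_comm] at h6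
      exact (add_right_cancel h6).symm
    rw [h5] at h3
    exact h3

end Comb

section Final

variable {D : ChevalleyDatum} {K : Type u} [Field K] [Finite K] {p : ℕ} [Fact p.Prime] [CharP K p]

theorem GS_SF_eq {l : ℕ} {M : CoxeterMatrix (Fin l)} (hp : IsType D l M) {W : Type*} [Group W]
    (cs : CoxeterSystem M W) (F : Subgroup (GL D.Idx K)) :
    G0 cs hp.isCartan (D.diagonalSubgroup K) (XV D l K) F = GS D K (SF D K F) := by
  unfold G0 GS
  rw [Sup_RS hp cs]
  rfl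

theorem add_of_closed {l : ℕ} {M : CoxeterMatrix (Fin l)} (hp : IsType D l M)
    (hD : D ∈ [chevG2, chevB2, chevD4, chevF4, chevE6, chevE7, chevE8]) {W : Type*} [Group W]
    (cs : CoxeterSystem M W) {F : Subgroup (GL D.Idx K)} (hcl : Closed D (SF D K F)) :
    ∀ x ∈ RS cs hp.isCartan (XV D l K) F, ∀ y ∈ RS cs hp.isCartan (XV D l K) F,
      IsRoot cs hp.isCartan (x + y) → x + y ∈ RS cs hp.isCartan (XV D l K) F := by
  intro x hx y hy hxy
  obtain ⟨r, hr, rfl⟩ := (isRoot_iff hp cs x).1 hx.1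
  obtain ⟨s, hs, rfl⟩ := (isRoot_iff hp cs y).1 hy.1
  obtain ⟨u, hu, e⟩ := (isRoot_iff hp cs _).1 hxy
  have h1 := chainRoot_of_vec hp hD hr hs hu e
  have h2 := hcl r ⟨hr, by rw [← XV_vec hp K hr]; exact hx.2⟩ s ⟨hs, by rw [← XV_vec hp K hs]; exact hy.2⟩ u h1
  refine ⟨hxy, ?_⟩
  rw [← e, XV_vec hp K hu]
  exact h2.2

/-- **(BRU)** The structure of `G(S_F)`: a `T`-invariant Sylow `p`-subgroup `P`, and the Bruhat decomposition. -/
theorem GS_struct (hD : D ∈ [chevG2, chevB2, chevD4, chevF4, chevE6, chevE7, chevE8]) (hK : 13 ≤ Nat.card K)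
    {F : Subgroup (GL D.Idx K)} (hTF : D.diagonalSubgroup K ≤ F) (hcl : Closed D (SF D K F)) :
    ∃ P : Subgroup (GL D.Idx K), P ≤ GS D K (SF D K F) ∧ IsPGroup p ↥P ∧
      D.diagonalSubgroup K ≤ Subgroup.normalizer (P : Set (GL D.Idx K)) ∧
      (P = ⨆ r ∈ {r : ℕ | r < D.nroots ∧ D.rootSubgroup K r ≤ P}, D.rootSubgroup K r) ∧
      (∀ r ∈ SF D K F, D.neg r ∉ SF D K F → D.rootSubgroup K r ≤ P) ∧
      (∀ r ∈ SF D K F, D.rootSubgroup K r ≤ P ∨ D.rootSubgroup K (D.neg r) ≤ P) ∧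
      (∀ P' : Subgroup (GL D.Idx K), IsPGroup p ↥P' → P ≤ P' → P' ≤ GS D K (SF D K F) → P' = P) ∧
      ∀ g ∈ GS D K (SF D K F), ∃ u ∈ P, ∃ m ∈ GS D K (SF D K F), 
        m ∈ Subgroup.normalizer (D.diagonalSubgroup K : Set (GL D.Idx K)) ∧ ∃ v ∈ P, g = u * m * v := by
  obtain ⟨l, M, hp⟩ := exists_type hD
  have : Finite (GL D.Idx K) := inferInstance
  have : Finite M.Group := finite_W hp M.toCoxeterSystem
  obtain ⟨z, hz⟩ := td hp M.toCoxeterSystem p hK
  have R := rgd_GL (K := K) hp M.toCoxeterSystem p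
  obtain ⟨w, k, hk, h1, h2, h3, h4⟩ := struct_gen R hz hTF (add_of_closed hp hD M.toCoxeterSystem hcl)
  set cs := M.toCoxeterSystem with hcs
  set P : Subgroup (GL D.Idx K) := F ⊓ cj k (RGD.Sup (XV D l K) (RGD.Pos cs hp.isCartan)) with hP
  have hPle : P ≤ G0 cs hp.isCartan (D.diagonalSubgroup K) (XV D l K) F := by
    rw [h2]
    exact RGD.Sup_le fun x hx => X_le_G0 hx.1
  rw [GS_SF_eq hp cs] at hPle h3 h4
  have hPp : IsPGroup p ↥P := by
    have h5 : IsPGroup p ↥(cj k (RGD.Sup (XV D l K) (RGD.Pos cs hp.isCartan))) := R.isPGroup_Upos.map _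
    exact h5.to_le inf_le_right
  have hTP : D.diagonalSubgroup K ≤ Subgroup.normalizer (P : Set (GL D.Idx K)) := by
    rw [h2]
    exact R.T_le_normalizer fun x hx => hx.1.1
  have hroot : ∀ r ∈ SF D K F, vec D l r ∈ RS cs hp.isCartan (XV D l K) F := fun r hr =>
    ⟨isRoot_vec hp cs hr.1, by rw [XV_vec hp K hr.1]; exact hr.2⟩
  have hin : ∀ r ∈ SF D K F, 0 ≤ rep cs hp.isCartan w⁻¹ (vec D l r) → D.rootSubgroup K r ≤ P := by
    intro r hr h0
    rw [h2, ← XV_vec hp K hr.1]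
    exact RGD.le_Sup (S := {x | x ∈ RS cs hp.isCartan (XV D l K) F ∧ 0 ≤ rep cs hp.isCartan w⁻¹ x})
      ⟨hroot r hr, h0⟩
  have hnsf : ∀ r ∈ SF D K F, -vec D l r ∈ RS cs hp.isCartan (XV D l K) F → D.neg r ∈ SF D K F := by
    intro r hr h5
    have hn := (StringMem.rootOK_of_mem hD hr.1).neg_lt
    refine ⟨hn, ?_⟩
    rw [← XV_vec hp K hn, vec_neg hp hr.1]
    exact h5.2
  have hneg : ∀ r ∈ SF D K F, D.neg r ∉ SF D K F → D.rootSubgroup K r ≤ P := fun r hr hr' =>
    hin r hr (h1 _ (hroot r hr) fun h5 => hr' (hnsf r hr h5))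
  refine ⟨P, hPle, hPp, hTP, ?_, hneg, ?_, h4, ?_⟩
  · apply le_antisymm
    · conv_lhs => rw [h2]
      refine RGD.Sup_le fun x hx => ?_
      obtain ⟨r, hr, rfl⟩ := (isRoot_iff hp cs x).1 hx.1.1
      have h5 : r ∈ SF D K F := ⟨hr, by rw [← XV_vec hp K hr]; exact hx.1.2⟩
      rw [XV_vec hp K hr]
      exact le_iSup₂ (f := fun r (_ : r ∈ {r : ℕ | r < D.nroots ∧ D.rootSubgroup K r ≤ P}) => D.rootSubgroup K r)
        r ⟨hr, hin r h5 hx.2⟩
    · exact iSup₂_le fun r hr => hr.2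
  · intro r hr
    by_cases hr' : D.neg r ∈ SF D K F
    · rcases ((isRoot_vec hp cs hr.1).act w⁻¹).pos_or_neg with h0 | h0
      · exact Or.inl (hin r hr h0)
      · refine Or.inr (hin _ hr' ?_)
        rw [vec_neg hp hr.1, map_neg]
        exact neg_nonneg.2 h0
    · exact Or.inl (hneg r hr hr')
  · intro g hg
    obtain ⟨u, hu, v, -, m, hm, hmv, u', hu', e⟩ := h3 g hg
    exact ⟨u, hu, m, hm, hmv.mem_normalizer, u', hu', e⟩

/-- `G(S_F) ∩ N(T)` is generated by `T` and its intersections with the groups `⟨X_r, X_{-r}⟩`. -/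
theorem GS_norm (p : ℕ) [Fact p.Prime] [CharP K p]
    (hD : D ∈ [chevG2, chevB2, chevD4, chevF4, chevE6, chevE7, chevE8]) (hK : 13 ≤ Nat.card K)
    {F : Subgroup (GL D.Idx K)} (hTF : D.diagonalSubgroup K ≤ F) (hcl : Closed D (SF D K F)) {g : GL D.Idx K}
    (hg : g ∈ GS D K (SF D K F)) (hgT : g ∈ Subgroup.normalizer (D.diagonalSubgroup K : Set (GL D.Idx K))) :
    g ∈ D.diagonalSubgroup K ⊔ ⨆ r ∈ {r : ℕ | r ∈ SF D K F ∧ D.neg r ∈ SF D K F},
      ((D.rootSubgroup K r ⊔ D.rootSubgroup K (D.neg r)) ⊓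
        Subgroup.normalizer (D.diagonalSubgroup K : Set (GL D.Idx K))) := by
  obtain ⟨l, M, hp⟩ := exists_type hD
  have : Finite (GL D.Idx K) := inferInstance
  have : Finite M.Group := finite_W hp M.toCoxeterSystem
  obtain ⟨z, hz⟩ := td hp M.toCoxeterSystem p hK
  have R := rgd_GL (K := K) hp M.toCoxeterSystem p
  have h1 := norm_G0 R hz hTF (add_of_closed hp hD M.toCoxeterSystem hcl) (g := g) (by
    rw [GS_SF_eq hp]; exact hg) (mem_normalizer_iff_cj.1 hgT)
  refine sup_le_sup_left (a := ⨆ a ∈ SS M.toCoxeterSystem hp.isCartan (XV D l K) F, (XV D l K a ⊔ XV D l K (-a)) ⊓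
    Subgroup.normalizer (D.diagonalSubgroup K : Set (GL D.Idx K))) ?_ _ h1
  refine iSup₂_le ?_
  intro x hx
  obtain ⟨r, hr, rfl⟩ := (isRoot_iff hp M.toCoxeterSystem x).1 hx.1.1
  have hn := (StringMem.rootOK_of_mem hD hr).neg_lt
  have h2 : r ∈ SF D K F := ⟨hr, by rw [← XV_vec hp K hr]; exact hx.1.2⟩
  have h3 : D.neg r ∈ SF D K F := ⟨hn, by rw [← XV_vec hp K hn, vec_neg hp hr]; exact hx.2.2⟩
  rw [← vec_neg hp hr, XV_vec hp K hr, XV_vec hp K hn]
  exact le_iSup₂ (f := fun r (_ : r ∈ {r : ℕ | r ∈ SF D K F ∧ D.neg r ∈ SF D K F}) =>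
    (D.rootSubgroup K r ⊔ D.rootSubgroup K (D.neg r)) ⊓
        Subgroup.normalizer (D.diagonalSubgroup K : Set (GL D.Idx K))) r ⟨h2, h3⟩

theorem mem_of_sup {Y : Type*} [Group Y] {T E : Subgroup Y} (hT : T ≤ Subgroup.normalizer (E : Set Y)) {p : ℕ}
    (hcop : (Nat.card T).Coprime p) {g : Y} (hg : g ∈ T ⊔ E) {k : ℕ} (hk : g ^ p ^ k = 1) : g ∈ E := by
  have h1 : g ∈ ((T ⊔ E : Subgroup Y) : Set Y) := hg
  rw [Subgroup.coe_mul_of_left_le_normalizer_right _ _ hT, Set.mem_mul] at h1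
  obtain ⟨t, ht, u, hu, e⟩ := h1
  set N : Subgroup Y := Subgroup.normalizer (E : Set Y) with hN
  have htN : t ∈ N := hT ht
  have huN : u ∈ N := Subgroup.le_normalizer hu
  have hxN : g ∈ N := by rw [← e]; exact mul_mem htN huN
  have : (E.subgroupOf N).Normal := Subgroup.normal_in_normalizer
  have h1 : (QuotientGroup.mk ⟨t, htN⟩ : ↥N ⧸ E.subgroupOf N) = QuotientGroup.mk ⟨g, hxN⟩ := by
    rw [QuotientGroup.eq, Subgroup.mem_subgroupOf]
    have h2 : t⁻¹ * g = u := by rw [← e]; group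
    change t⁻¹ * g ∈ _
    rw [h2]; exact hu
  have h2 : orderOf (QuotientGroup.mk ⟨g, hxN⟩ : ↥N ⧸ E.subgroupOf N) ∣ p ^ k := by
    apply orderOf_dvd_of_pow_eq_one
    rw [← QuotientGroup.mk_pow]
    have : (⟨g, hxN⟩ : ↥N) ^ p ^ k = 1 := Subtype.ext hk
    rw [this, QuotientGroup.mk_one]
  have h3 : orderOf (QuotientGroup.mk ⟨g, hxN⟩ : ↥N ⧸ E.subgroupOf N) ∣ Nat.card T := by
    apply orderOf_dvd_of_pow_eq_one
    rw [← h1, ← QuotientGroup.mk_pow]
    have h4 : (⟨t, ht⟩ : ↥T) ^ Nat.card T = 1 := pow_card_eq_one'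
    have : (⟨t, htN⟩ : ↥N) ^ Nat.card T = 1 := Subtype.ext (by
      have h5 := congrArg Subtype.val h4
      rwa [SubgroupClass.coe_pow] at h5)
    rw [this, QuotientGroup.mk_one]
  have h4 : orderOf (QuotientGroup.mk ⟨g, hxN⟩ : ↥N ⧸ E.subgroupOf N) = 1 := by
    have hc : (p ^ k).Coprime (Nat.card T) := (Nat.Coprime.pow_left k hcop.symm)
    exact Nat.dvd_one.1 (hc ▸ Nat.dvd_gcd h2 h3)
  rw [orderOf_eq_one_iff, QuotientGroup.eq_one_iff, Subgroup.mem_subgroupOf] at h4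
  exact h4

/-- A group `E` generated by root subgroups has a `T`-invariant Sylow `p`-subgroup, which is a product of root
subgroups. -/
theorem sylow_of_gen (hD : D ∈ [chevG2, chevB2, chevD4, chevF4, chevE6, chevE7, chevE8]) (hK : 13 ≤ Nat.card K)
    {E : Subgroup (GL D.Idx K)} (hE : E ≤ DF D K E)
    (hcl : Closed D (SF D K (D.diagonalSubgroup K ⊔ E))) :
    ∃ P : Subgroup (GL D.Idx K), P ≤ E ∧ IsPGroup p ↥P ∧
      D.diagonalSubgroup K ≤ Subgroup.normalizer (P : Set (GL D.Idx K)) ∧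
      (P = ⨆ r ∈ {r : ℕ | r < D.nroots ∧ D.rootSubgroup K r ≤ P}, D.rootSubgroup K r) ∧
      (∀ r ∈ SF D K E, D.rootSubgroup K r ≤ P ∨ D.rootSubgroup K (D.neg r) ≤ P) ∧
      (∀ P' : Subgroup (GL D.Idx K), IsPGroup p ↥P' → P ≤ P' → P' ≤ E → P' = P) := by
  obtain ⟨l, M, hp⟩ := exists_type hD
  have : Finite (GL D.Idx K) := inferInstance
  have R := rgd_GL (K := K) hp M.toCoxeterSystem p
  set T := D.diagonalSubgroup K with hT
  have hTE : T ≤ Subgroup.normalizer (E : Set (GL D.Idx K)) := by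
    have h1 : E = RGD.Sup (XV D l K) (RS M.toCoxeterSystem hp.isCartan (XV D l K) E) := by
      rw [Sup_RS hp]
      exact le_antisymm hE (DF_le E)
    rw [h1]
    exact R.T_le_normalizer fun x hx => hx.1
  have hXp : ∀ r < D.nroots, IsPGroup p ↥(D.rootSubgroup K r) := fun r hr => by
    have : Finite M.Group := finite_W hp M.toCoxeterSystem
    rw [← XV_vec hp K hr]
    exact R.pgrp' (isRoot_vec hp M.toCoxeterSystem hr)
  have hpE : ∀ Q : Subgroup (GL D.Idx K), IsPGroup p ↥Q → Q ≤ T ⊔ E → Q ≤ E := by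
    intro Q hQ hQE g hg
    obtain ⟨k, hk⟩ := hQ ⟨g, hg⟩
    refine mem_of_sup hTE R.tcop (hQE hg) (k := k) ?_
    have := congrArg Subtype.val hk
    rwa [SubgroupClass.coe_pow] at this
  have hSF : SF D K (T ⊔ E) = SF D K E := by
    refine Set.Subset.antisymm (fun r hr => ⟨hr.1, hpE _ (hXp r hr.1) hr.2⟩) (SF_mono le_sup_right)
  have hGS : GS D K (SF D K (T ⊔ E)) = T ⊔ E := by
    rw [hSF]
    have h1 : (⨆ r ∈ SF D K E, D.rootSubgroup K r) = E := le_antisymm (DF_le E) hE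
    unfold GS
    rw [h1]
  obtain ⟨P, h1, h2, h3, h4, h5, h6, h7, -⟩ := GS_struct (p := p) hD hK (F := T ⊔ E) le_sup_left hcl
  rw [hGS] at h1 h7
  rw [hSF] at h6
  exact ⟨P, hpE P h2 h1, h2, h3, h4, h6, fun P' hP' hle hP'E => h7 P' hP' hle (le_trans hP'E le_sup_right)⟩

end Final

end Cfsg.Agent.H460.OT
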