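import Mathlib
import Cfsg.Agent.H460.OT.BruComb
import Cfsg.Agent.H460.OT.Abs

/-!
helper460 (S2539, layer 0). The Bruhat decomposition of the groups `G(S) = ⟨T, X x : x ∈ S⟩`, their Sylow subgroups and
their Weyl groups.

`H` is a subgroup containing `T`, `RS H` the set of roots `x` with `X x ≤ H`, assumed closed under addition,
`G0 H = T ⊔ Sup X (RS H)`.
-/

set_option autoImplicit false
set_option linter.unusedSectionVars false

namespace Cfsg.Agent.H460.OT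

open CoxeterSystem Cfsg.Agent.ChevalleyStructure.CoxeterGeom Cfsg.Agent.Tits.Roots Cfsg.Agent.Tits.Core
  Cfsg.Agent.Tits.RootComb Cfsg.Agent.Tits.Exchange Cfsg.Agent.Nodes.Reps Cfsg.Agent.Nodes.BNOf
  Cfsg.Agent.Nodes.StabComb Cfsg.Agent.Nodes.Bruhat Cfsg.Agent.Nodes.OppDec Cfsg.Agent.Nodes.LeviDec
  Cfsg.Agent.Nodes.Coroot Cfsg.Agent.Nodes.PosPair Cfsg.Agent.KFacts.RgdSL
  Cfsg.Agent.KFacts.RgdPar Cfsg.Agent.KFacts.RgdBorelTits Cfsg.Agent.Nodes.Unique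
open scoped commutatorElement

variable {I W Y : Type*} [Fintype I] [DecidableEq I] [Group W] [Group Y] {M : CoxeterMatrix I}
  {cs : CoxeterSystem M W} {A : I → I → ℤ} {h : IsCartan M A} {p : ℕ} {T : Subgroup Y} {n : I → Y}
  {X : (I → ℤ) → Subgroup Y}

/-- `G(S)` for `S = RS H`. -/
def G0 (cs : CoxeterSystem M W) (h : IsCartan M A) (T : Subgroup Y) (X : (I → ℤ) → Subgroup Y) (H : Subgroup Y) :
    Subgroup Y := T ⊔ RGD.Sup X (RS cs h X H)

/-- the positive roots of `H` -/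
def SP (cs : CoxeterSystem M W) (h : IsCartan M A) (X : (I → ℤ) → Subgroup Y) (H : Subgroup Y) : Set (I → ℤ) :=
  {x | x ∈ RS cs h X H ∧ 0 ≤ x}

/-- the symmetric roots of `H` -/
def SS (cs : CoxeterSystem M W) (h : IsCartan M A) (X : (I → ℤ) → Subgroup Y) (H : Subgroup Y) : Set (I → ℤ) :=
  {x | x ∈ RS cs h X H ∧ -x ∈ RS cs h X H}

/-- the positive symmetric roots of `H` -/
def PP (cs : CoxeterSystem M W) (h : IsCartan M A) (X : (I → ℤ) → Subgroup Y) (H : Subgroup Y) : Set (I → ℤ) :=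
  {x | x ∈ SS cs h X H ∧ 0 ≤ x}

/-- the Weyl group of `G0 H` -/
def WS (cs : CoxeterSystem M W) (h : IsCartan M A) (X : (I → ℤ) → Subgroup Y) (H : Subgroup Y) : Subgroup W :=
  Subgroup.closure {s | ∃ a, a ∈ RS cs h X H ∧ -a ∈ RS cs h X H ∧ IsRf cs h a s}

theorem W0_le_WS {H : Subgroup Y} : W0 cs h (PP cs h X H) ≤ WS cs h X H := by
  refine Subgroup.closure_mono ?_
  rintro s ⟨a, ha, hs⟩
  exact ⟨a, ha.1.1.1, ha.1.1.2, hs⟩

theorem G0_le {H : Subgroup Y} (hTH : T ≤ H) : G0 cs h T X H ≤ H := sup_le hTH (RGD.Sup_le fun _ hx => hx.2)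

theorem X_le_G0 {H : Subgroup Y} {x : I → ℤ} (hx : x ∈ RS cs h X H) : X x ≤ G0 cs h T X H :=
  le_trans (RGD.le_Sup hx) le_sup_right

theorem T_le_G0 {H : Subgroup Y} : T ≤ G0 cs h T X H := le_sup_left

theorem RS_G0 {H : Subgroup Y} (hTH : T ≤ H) : RS cs h X (G0 cs h T X H) = RS cs h X H := by
  ext x
  exact ⟨fun hx => ⟨hx.1, le_trans hx.2 (G0_le hTH)⟩, fun hx => ⟨hx.1, X_le_G0 hx⟩⟩

section

variable (R : RGD cs h p T n X)

include R

theorem mem_of_X_le [Finite W] {w : W} {S : Set (I → ℤ)} (hS : ∀ x ∈ S, IsRoot cs h x ∧ 0 ≤ rep cs h w x)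
    (hc : Nodes.Unique.Closed cs h S) {v : I → ℤ} (hv : IsRoot cs h v) (hv0 : 0 ≤ rep cs h w v)
    (hle : X v ≤ RGD.Sup X S) : v ∈ S := by
  by_contra hvS
  obtain ⟨k, hk⟩ := exists_rp cs R.nsys w
  set S' : Set (I → ℤ) := {x | rep cs h w⁻¹ x ∈ S} with hS'
  have h1 : cj k (RGD.Sup X S) ≤ RGD.Sup X S' := cj_Sup_le R hk (fun x hx => (hS x hx).1) (fun x hx => by
    show rep cs h w⁻¹ (rep cs h w x) ∈ S
    rw [rep_inv_apply]; exact hx)
  have h2 : X (rep cs h w v) ≤ RGD.Sup X S' := by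
    rw [← R.conj_rp hk hv]; exact le_trans (cj_mono k hle) h1
  have hr : IsRoot cs h (rep cs h w v) := hv.act w
  have h3 := inf_eq R (S := {rep cs h w v}) (S' := S') (by
      rintro x rfl; exact ⟨hr, hv0⟩) (by
      intro x hx
      have h4 := hS _ hx
      refine ⟨?_, ?_⟩
      · have := h4.1.act w; rwa [rep_apply_inv] at this
      · have := h4.2; rwa [rep_apply_inv] at this) (by
      intro x hx y hy z hz
      rw [Set.mem_singleton_iff] at hx hy ⊢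
      subst hx; subst hy
      exact btwn_self hr hz) (by
      intro x hx y hy z hz
      exact hc _ hx _ hy _ (hz.act w⁻¹))
  have h4 : X (rep cs h w v) ≤ RGD.Sup X ({rep cs h w v} ∩ S') := by
    rw [← h3]
    exact le_inf (RGD.le_Sup (Set.mem_singleton _)) h2
  have h5 : ({rep cs h w v} ∩ S' : Set (I → ℤ)) = ∅ := by
    ext x
    simp only [Set.mem_inter_iff, Set.mem_singleton_iff, Set.mem_empty_iff_false, iff_false, not_and]
    rintro rfl h6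
    apply hvS
    have h7 : rep cs h w⁻¹ (rep cs h w v) ∈ S := h6
    rwa [rep_inv_apply] at h7
  rw [h5] at h4
  exact X_ne_bot R hr (le_bot_iff.1 (le_trans h4 (RGD.Sup_le fun z hz => absurd hz (Set.notMem_empty z))))

omit R in
theorem closed_btwn (x y : I → ℤ) : Nodes.Unique.Closed cs h {v | Btwn cs h x y v} := by
  rintro v ⟨hv, m1, a1, b1, hm1, ha1, hb1, e1⟩ v' ⟨hv', m2, a2, b2, hm2, ha2, hb2, e2⟩ z ⟨hz, m, a, b, hm, ha, hb, e⟩
  refine ⟨hz, m * m1 * m2, a * m2 * a1 + b * m1 * a2, a * m2 * b1 + b * m1 * b2, by positivity, by positivity,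
    by positivity, ?_⟩
  calc (m * m1 * m2) • z = (m1 * m2) • (m • z) := by module
    _ = (a * m2) • (m1 • v) + (b * m1) • (m2 • v') := by rw [e]; module
    _ = _ := by rw [e1, e2]; module

/-- refined commutator relations -/
theorem comm_RS [Finite W] [Finite Y] [hp : Fact p.Prime] {z : I → Y} (D : TD cs h T X z) {H : Subgroup Y}
    (hTH : T ≤ H) {x y : I → ℤ} (hx : x ∈ RS cs h X H) (hy : y ∈ RS cs h X H) (hxy : x ≠ y) (hxy' : x ≠ -y)
    {a b : Y} (ha : a ∈ X x) (hb : b ∈ X y) : ⁅a, b⁆ ∈ RGD.Sup X {v | v ∈ RS cs h X H ∧ Btwn cs h x y v} := by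
  obtain ⟨w, hwx, hwy⟩ := exists_pos_pair cs h hx.1 hy.1 hxy'
  obtain ⟨k, hk⟩ := exists_rp cs R.nsys w⁻¹
  set Q := H ⊓ RGD.Sup X {v | Btwn cs h x y v} with hQ
  have hQU : Q ≤ cj k (RGD.Sup X (RGD.Pos cs h)) := by
    refine le_trans inf_le_right (RGD.Sup_le fun v hv => ?_)
    have hv' : Btwn cs h x y v := hv
    have h1 : X v = cj k (X (rep cs h w v)) := by rw [R.conj_rp hk (hv'.1.act _), rep_inv_apply]
    rw [h1]
    exact cj_mono k (RGD.le_Sup (S := RGD.Pos cs h) ⟨hv'.1.act _, RGD.nonneg_of_btwn hwx hwy (hv'.act w)⟩)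
  have hQT : ∀ t ∈ T, cj t Q ≤ Q := by
    intro t ht u hu
    rw [mem_cj] at hu
    obtain ⟨h1, h2⟩ := Subgroup.mem_inf.1 hu
    refine Subgroup.mem_inf.2 ⟨?_, FS_T_inv (S := {v | Btwn cs h x y v}) (fun v hv => R.tor v hv.1 t ht)
      (mem_cj.2 h2)⟩
    have : u = t * (t⁻¹ * u * t) * t⁻¹ := by group
    rw [this]
    exact mul_mem (mul_mem (hTH ht) h1) (inv_mem (hTH ht))
  have h3 : ⁅a, b⁆ ∈ Q := by
    refine Subgroup.mem_inf.2 ⟨?_, R.comm x y hx.1 hy.1 hxy hxy' a ha b hb⟩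
    rw [commutatorElement_def]
    exact mul_mem (mul_mem (mul_mem (hx.2 ha) (hy.2 hb)) (inv_mem (hx.2 ha))) (inv_mem (hy.2 hb))
  rw [prod_pos R D hk hQU hQT] at h3
  refine RGD.Sup_mono (S := {x | x ∈ RS cs h X Q ∧ 0 ≤ rep cs h w⁻¹⁻¹ x}) ?_ h3
  rintro v ⟨⟨hv, hvQ⟩, hv0⟩
  rw [inv_inv] at hv0
  refine ⟨⟨hv, le_trans hvQ inf_le_left⟩, ?_⟩
  exact mem_of_X_le R (w := w) (S := {v | Btwn cs h x y v})
    (fun v hv => ⟨hv.1, RGD.nonneg_of_btwn hwx hwy (hv.act w)⟩) (closed_btwn x y) hv hv0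
    (le_trans hvQ inf_le_right)

theorem RS_act {H : Subgroup Y} {w : W} {m : Y} (hm : Rp cs R.nsys w m) (hmH : m ∈ H) {x : I → ℤ}
    (hx : x ∈ RS cs h X H) : rep cs h w x ∈ RS cs h X H := by
  refine ⟨hx.1.act w, ?_⟩
  rw [← R.conj_rp hm hx.1]
  intro u hu
  rw [mem_cj] at hu
  have : u = m * (m⁻¹ * u * m) * m⁻¹ := by group
  rw [this]
  exact mul_mem (mul_mem hmH (hx.2 hu)) (inv_mem hmH)

theorem exists_mu' [Finite W] {x : I → ℤ} (hx : IsRoot cs h x) {s : W} (hs : IsRf cs h x s) {y : Y}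
    (hy : y ∈ X (-x)) (hy1 : y ≠ 1) :
    ∃ a ∈ X x, ∃ b ∈ X x, ∃ m ∈ X x ⊔ X (-x), Rp cs R.nsys s m ∧ y = a * m * b := by
  obtain ⟨s', hs', a, ha, b, hb, m, hm, e⟩ := exists_mu R hx.neg hy hy1
  rw [neg_neg] at ha hb
  have h1 : IsRf cs h x s' := by
    have := IsRf.neg (cs := cs) (h := h) hx.neg (s := s') hs'
    rwa [neg_neg] at this
  rw [h1.unique hs] at hm
  refine ⟨a⁻¹, inv_mem ha, b⁻¹, inv_mem hb, m, ?_, hm, by rw [e]; group⟩
  rw [e]
  exact mul_mem (mul_mem (le_sup_left (a := X x) ha) (le_sup_right (a := X x) hy)) (le_sup_left (a := X x) hb)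

theorem exists_m [Finite W] {H : Subgroup Y} {x : I → ℤ} (hx : x ∈ SS cs h X H) {s : W} (hs : IsRf cs h x s) :
    ∃ m ∈ G0 cs h T X H, Rp cs R.nsys s m := by
  obtain ⟨y, hy, hy1⟩ : ∃ y ∈ X (-x), y ≠ 1 := by
    by_contra hcon
    push Not at hcon
    exact X_ne_bot R hx.1.1.neg ((Subgroup.eq_bot_iff_forall _).2 hcon)
  obtain ⟨a, ha, b, hb, m, hm, hm', -⟩ := exists_mu' R hx.1.1 hs hy hy1
  exact ⟨m, sup_le (X_le_G0 hx.1) (X_le_G0 hx.2) hm, hm'⟩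

theorem RS_refl [Finite W] {H : Subgroup Y} (hTH : T ≤ H) {a : I → ℤ} (ha : a ∈ RS cs h X H)
    (ha' : -a ∈ RS cs h X H) {x : I → ℤ} (hx : x ∈ RS cs h X H) : x - cpr cs h x a • a ∈ RS cs h X H := by
  obtain ⟨s, hs⟩ := exists_rf ha.1
  obtain ⟨m, hm, hm'⟩ := exists_m R (H := H) ⟨ha, ha'⟩ hs
  rw [← hs]
  exact RS_act R hm' (G0_le hTH hm) hx

theorem SS_refl [Finite W] {H : Subgroup Y} (hTH : T ≤ H) {a : I → ℤ} (ha : a ∈ SS cs h X H)
    {x : I → ℤ} (hx : x ∈ SS cs h X H) : x - cpr cs h x a • a ∈ SS cs h X H := by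
  refine ⟨RS_refl R hTH ha.1 ha.2 hx.1, ?_⟩
  have h1 := RS_refl R hTH ha.1 ha.2 hx.2
  rw [cpr_neg cs h _ ha.1.1, neg_smul, sub_neg_eq_add] at h1
  have h2 : -(x - cpr cs h x a • a) = -x + cpr cs h x a • a := by abel
  rwa [h2]

/-! ### positive case -/

variable [Finite W] [Finite Y] [hp : Fact p.Prime] {z : I → Y} (D : TD cs h T X z) {H : Subgroup Y} (hTH : T ≤ H)

include D hTH in
/-- `X a` normalises `Sup (SP \ {a})`. -/
theorem norm_X {a : I → ℤ} (ha : a ∈ SP cs h X H) :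
    X a ≤ Subgroup.normalizer (RGD.Sup X (SP cs h X H \ {a}) : Set Y) := by
  have key : ∀ u ∈ X a, cj u (RGD.Sup X (SP cs h X H \ {a})) ≤ RGD.Sup X (SP cs h X H \ {a}) := by
    intro u hu
    rw [RGD.cj_Sup]
    refine iSup_le ?_
    rintro ⟨y, hy, hya⟩
    have hya' : y ≠ a := hya
    intro b hb
    rw [mem_cj] at hb
    have h1 := comm_RS R D hTH ha.1 hy.1 hya'.symm (by
      rintro h0
      have h2 : y ≤ 0 := by
        have := ha.2
        rw [h0] at this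
        exact neg_nonneg.1 this
      exact hy.1.1.not_pos_neg hy.2 h2) hu hb
    have h2 : b = ⁅u, u⁻¹ * b * u⁆ * (u⁻¹ * b * u) := by
      rw [commutatorElement_def]; group
    rw [h2]
    refine mul_mem (RGD.Sup_mono (S := {v | v ∈ RS cs h X H ∧ Btwn cs h a y v}) ?_ h1)
      (RGD.le_Sup (S := SP cs h X H \ {a}) ⟨hy, hya⟩ hb)
    rintro v ⟨hv, hvb⟩
    exact ⟨⟨hv, RGD.nonneg_of_btwn ha.2 hy.2 hvb⟩, btwn_ne_left ha.1.1 hy.1.1 ha.2 hy.2 hya'.symm hvb⟩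
  intro u hu
  rw [mem_normalizer_iff_cj]
  apply le_antisymm (key u hu)
  have h1 := key u⁻¹ (inv_mem hu)
  have h2 := cj_mono u h1
  rwa [cj_cj_inv] at h2

include D hTH in
theorem exists_mul' {a : I → ℤ} (ha : a ∈ SP cs h X H) {u : Y} (hu : u ∈ RGD.Sup X (SP cs h X H)) :
    ∃ r ∈ RGD.Sup X (SP cs h X H \ {a}), ∃ x ∈ X a, u = r * x := by
  have hn := norm_X R D hTH ha
  have h1 : u ∈ ((RGD.Sup X (SP cs h X H \ {a}) ⊔ X a : Subgroup Y) : Set Y) := by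
    refine (?_ : RGD.Sup X (SP cs h X H) ≤ _) hu
    refine RGD.Sup_le fun z hz => ?_
    by_cases hz0 : z = a
    · subst hz0; exact le_sup_right
    · exact le_trans (RGD.le_Sup (S := SP cs h X H \ {a}) ⟨hz, hz0⟩) le_sup_left
  rw [Subgroup.coe_mul_of_right_le_normalizer_left _ _ hn, Set.mem_mul] at h1
  obtain ⟨r, hr, x, hx, e⟩ := h1
  exact ⟨r, hr, x, hx, e.symm⟩

omit [Finite W] [Finite Y] hp in
/-- `g ∈ U_S k U_S` -/
def Gam (R : RGD cs h p T n X) (H : Subgroup Y) (g : Y) : Prop :=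
  ∃ u ∈ RGD.Sup X (SP cs h X H), ∃ w ∈ W0 cs h (PP cs h X H), ∃ k ∈ G0 cs h T X H, Rp cs R.nsys w k ∧
    ∃ v ∈ RGD.Sup X (SP cs h X H), g = u * k * v

omit [Finite W] [Finite Y] hp in
theorem gam_one : Gam R H 1 := ⟨1, one_mem _, 1, one_mem _, 1, one_mem _, rp_one, 1, one_mem _, by group⟩

omit [Finite W] [Finite Y] hp in
theorem gam_U {u g : Y} (hu : u ∈ RGD.Sup X (SP cs h X H)) (hg : Gam R H g) : Gam R H (u * g) := by
  obtain ⟨u', hu', w, hw, k, hk, hkw, v, hv, rfl⟩ := hg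
  exact ⟨u * u', mul_mem hu hu', w, hw, k, hk, hkw, v, hv, by group⟩

omit [Finite W] [Finite Y] hp in
theorem T_SP {t u : Y} (ht : t ∈ T) (hu : u ∈ RGD.Sup X (SP cs h X H)) :
    t * u * t⁻¹ ∈ RGD.Sup X (SP cs h X H) :=
  FS_T_inv (S := SP cs h X H) (fun v hv => R.tor v hv.1.1 t ht) (conj_mem_cj.2 hu)

omit [Finite W] [Finite Y] hp in
theorem gam_T {t g : Y} (ht : t ∈ T) (hg : Gam R H g) : Gam R H (t * g) := by
  obtain ⟨u, hu, w, hw, k, hk, hkw, v, hv, rfl⟩ := hg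
  refine ⟨t * u * t⁻¹, T_SP R ht hu, w, hw, t * k, mul_mem (T_le_G0 ht) hk, ?_, v, hv, by group⟩
  have := (rp_of_mem (cs := cs) (hN := R.nsys) ht).mul hkw
  rwa [one_mul] at this

include D hTH in
theorem gam_m (hpos : ∀ a ∈ RS cs h X H, -a ∉ RS cs h X H → 0 ≤ a) {a : I → ℤ} (ha : Smp cs h (PP cs h X H) a)
    {s : W} (hs : IsRf cs h a s) {m : Y} (hm : m ∈ G0 cs h T X H) (hms : Rp cs R.nsys s m) {g : Y}
    (hg : Gam R H g) : Gam R H (m * g) := by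
  obtain ⟨u, hu, w, hw, k, hk, hkw, v, hv, rfl⟩ := hg
  have har : IsRoot cs h a := ha.1.1.1.1
  have haSP : a ∈ SP cs h X H := ⟨ha.1.1.1, ha.1.2⟩
  have hsW : s ∈ W0 cs h (PP cs h X H) := Subgroup.subset_closure ⟨a, ha, hs⟩
  obtain ⟨r, hr, x, hx, rfl⟩ := exists_mul' R D hTH haSP hu
  -- `m r m⁻¹`
  have h1 : m * r * m⁻¹ ∈ RGD.Sup X (SP cs h X H) := by
    refine conj_mem_Sup R hms (S := SP cs h X H \ {a}) (fun y hy => hy.1.1.1) ?_ hr
    rintro y ⟨hy, hya⟩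
    have hya' : y ≠ a := hya
    refine ⟨RS_act R hms (G0_le hTH hm) hy.1, ?_⟩
    by_cases hy' : -y ∈ RS cs h X H
    · rw [hs]
      exact (ha.2 y ⟨⟨hy.1, hy'⟩, hy.2⟩ hya').2
    · refine hpos _ (RS_act R hms (G0_le hTH hm) hy.1) fun h2 => hy' ?_
      have h3 := RS_act R hms (G0_le hTH hm) h2
      rwa [map_neg, ← rep_mul_apply, hs.mul_self har, map_one, Module.End.one_apply] at h3
  have hmk : Rp cs R.nsys (s * w) (m * k) := hms.mul hkw
  rcases (har.act w⁻¹).pos_or_neg with h0 | h0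
  · have h2 : k⁻¹ * x * k ∈ RGD.Sup X (SP cs h X H) := by
      refine RGD.le_Sup (S := SP cs h X H) ⟨?_, h0⟩ (R.conj_mem' hkw har hx)
      exact RS_act R hkw.inv (inv_mem (G0_le hTH hk)) ha.1.1.1
    exact ⟨m * r * m⁻¹, h1, s * w, mul_mem hsW hw, m * k, mul_mem hm hk, hmk, (k⁻¹ * x * k) * v,
      mul_mem h2 hv, by group⟩
  · have h2 : rep cs h (s * w)⁻¹ a = -rep cs h w⁻¹ a := by
      rw [mul_inv_rev, rep_mul_apply, hs.inv_eq har, hs.self har, map_neg]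
    have h3 : m * x * m⁻¹ ∈ X (-a) := by
      have := R.conj_mem hms har hx
      rwa [hs.self har] at this
    by_cases hx1 : x = 1
    · subst hx1
      exact ⟨m * r * m⁻¹, h1, s * w, mul_mem hsW hw, m * k, mul_mem hm hk, hmk, v, hv, by group⟩
    · obtain ⟨a', ha', b', hb', m', hm', hms', e⟩ := exists_mu' R har hs h3 (by
        intro h4
        apply hx1
        have : x = m⁻¹ * (m * x * m⁻¹) * m := by group
        rw [this, h4]; group)
      have hm'G : m' ∈ G0 cs h T X H := sup_le (X_le_G0 ha.1.1.1) (X_le_G0 ha.1.1.2) hm'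
      have h4 : (m * k)⁻¹ * b' * (m * k) ∈ RGD.Sup X (SP cs h X H) := by
        have h5 := R.conj_mem' hmk har hb'
        rw [h2] at h5
        refine RGD.le_Sup (S := SP cs h X H) ⟨?_, neg_nonneg.2 h0⟩ h5
        have h6 := RS_act R hkw.inv (inv_mem (G0_le hTH hk)) ha.1.1.2
        rwa [map_neg] at h6
      have h5 : Rp cs R.nsys w (m' * (m * k)) := by
        have := hms'.mul hmk
        rwa [← mul_assoc s s w, hs.mul_self har, one_mul] at this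
      refine ⟨m * r * m⁻¹ * a', mul_mem h1 (RGD.le_Sup haSP ha'), w, hw, m' * (m * k),
        mul_mem hm'G (mul_mem hm hk), h5, ((m * k)⁻¹ * b' * (m * k)) * v, mul_mem h4 hv, ?_⟩
      calc m * (r * x * k * v) = (m * r * m⁻¹) * (m * x * m⁻¹) * (m * k) * v := by group
        _ = _ := by rw [e]; group

include D hTH in
/-- **Bruhat decomposition**, positive case. -/
theorem gam_of_mem (hpos : ∀ a ∈ RS cs h X H, -a ∉ RS cs h X H → 0 ≤ a) {g : Y} (hg : g ∈ G0 cs h T X H) :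
    Gam R H g := by
  let L : Subgroup Y :=
    { carrier := {g | (∀ γ, Gam R H γ → Gam R H (g * γ)) ∧ ∀ γ, Gam R H γ → Gam R H (g⁻¹ * γ)}
      one_mem' := ⟨fun γ hγ => by rwa [one_mul], fun γ hγ => by rwa [inv_one, one_mul]⟩
      mul_mem' := by
        rintro a b ⟨ha, ha'⟩ ⟨hb, hb'⟩
        refine ⟨fun γ hγ => ?_, fun γ hγ => ?_⟩
        · rw [mul_assoc]; exact ha _ (hb _ hγ)
        · rw [mul_inv_rev, mul_assoc]; exact hb' _ (ha' _ hγ)
      inv_mem' := by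
        rintro a ⟨ha, ha'⟩
        exact ⟨ha', fun γ hγ => by rw [inv_inv]; exact ha γ hγ⟩ }
  have hT : T ≤ L := fun t ht => ⟨fun γ hγ => gam_T R ht hγ, fun γ hγ => gam_T R (inv_mem ht) hγ⟩
  have hU : RGD.Sup X (SP cs h X H) ≤ L := fun u hu =>
    ⟨fun γ hγ => gam_U R hu hγ, fun γ hγ => gam_U R (inv_mem hu) hγ⟩
  have hM : ∀ a, Smp cs h (PP cs h X H) a → ∀ s, IsRf cs h a s → ∀ m ∈ G0 cs h T X H, Rp cs R.nsys s m → m ∈ L := by
    intro a ha s hs m hm hms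
    refine ⟨fun γ hγ => gam_m R D hTH hpos ha hs hm hms hγ,
      fun γ hγ => gam_m R D hTH hpos ha hs (inv_mem hm) ?_ hγ⟩
    have := hms.inv
    rwa [hs.inv_eq ha.1.1.1.1] at this
  have hW : ∀ v ∈ W0 cs h (PP cs h X H), ∃ k ∈ L, Rp cs R.nsys v k := by
    intro v hv
    induction hv using Subgroup.closure_induction with
    | mem s hs =>
      obtain ⟨a, ha, hs⟩ := hs
      obtain ⟨m, hm, hms⟩ := exists_m R ha.1.1 hs
      exact ⟨m, hM a ha s hs m hm hms, hms⟩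
    | one => exact ⟨1, one_mem _, rp_one⟩
    | mul v v' _ _ ih ih' =>
      obtain ⟨k, hk, hk'⟩ := ih
      obtain ⟨l, hl, hl'⟩ := ih'
      exact ⟨k * l, mul_mem hk hl, hk'.mul hl'⟩
    | inv v _ ih =>
      obtain ⟨k, hk, hk'⟩ := ih
      exact ⟨k⁻¹, inv_mem hk, hk'.inv⟩
  have hcj : ∀ k ∈ L, ∀ A : Subgroup Y, A ≤ L → cj k A ≤ L := by
    intro k hk A hA u hu
    rw [mem_cj] at hu
    have : u = k * (k⁻¹ * u * k) * k⁻¹ := by group
    rw [this]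
    exact mul_mem (mul_mem hk (hA hu)) (inv_mem hk)
  have hneg : ∀ x ∈ PP cs h X H, X (-x) ≤ L := by
    intro x hx
    obtain ⟨v, hv, a, ha, hva⟩ := exists_conj_simple (cs := cs) (h := h) (Sg := SS cs h X H)
      (fun x hx => hx.1.1) (fun x hx => ⟨hx.2, by rw [neg_neg]; exact hx.1⟩)
      (fun a ha x hx => SS_refl R hTH ha hx) hx.1 hx.2
    obtain ⟨k, hk, hk'⟩ := hW v hv
    have ha' : Smp cs h (PP cs h X H) a := ha
    obtain ⟨s, hs⟩ := exists_rf ha'.1.1.1.1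
    obtain ⟨m, hm, hms⟩ := exists_m R ha'.1.1 hs
    have h1 : X (-a) ≤ L := by
      have h2 : X (-a) = cj m (X a) := by rw [R.conj_rp hms ha'.1.1.1.1, hs.self ha'.1.1.1.1]
      rw [h2]
      exact hcj m (hM a ha' s hs m hm hms) _ (le_trans (RGD.le_Sup (S := SP cs h X H) ⟨ha'.1.1.1, ha'.1.2⟩) hU)
    have h2 : X (-x) = cj k (X (-a)) := by rw [R.conj_rp hk' ha'.1.1.1.1.neg, map_neg, hva]
    rw [h2]
    exact hcj k hk _ h1
  have hL : G0 cs h T X H ≤ L := by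
    refine sup_le hT (RGD.Sup_le fun y hy => ?_)
    rcases hy.1.pos_or_neg with h0 | h0
    · exact le_trans (RGD.le_Sup (S := SP cs h X H) ⟨hy, h0⟩) hU
    · have h1 : -y ∈ RS cs h X H := by
        by_contra hcon
        exact hy.1.not_pos_neg (hpos y hy hcon) h0
      have h2 := hneg (-y) ⟨⟨h1, by rw [neg_neg]; exact hy⟩, neg_nonneg.2 h0⟩
      rwa [neg_neg] at h2
  have h1 := (hL hg).1 1 (gam_one R)
  rwa [mul_one] at h1

include D hTH in
theorem mem_W0_of_rp (hpos : ∀ a ∈ RS cs h X H, -a ∉ RS cs h X H → 0 ≤ a) {g : Y} (hg : g ∈ G0 cs h T X H)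
    {w : W} (hw : Rp cs R.nsys w g) : w ∈ W0 cs h (PP cs h X H) := by
  obtain ⟨u, hu, w', hw', k, hk, hkw, v, hv, e⟩ := gam_of_mem R D hTH hpos hg
  have hSB : RGD.Sup X (SP cs h X H) ≤ RGD.B cs h T X :=
    le_trans (RGD.Sup_mono (S := SP cs h X H) (S' := RGD.Pos cs h) fun x hx => ⟨hx.1.1, hx.2⟩) RGD.U_le_B
  have h1 : Cell R.nsys cs h X w' g := ⟨u, hSB hu, k, hkw, v, hSB hv, e⟩
  rw [Cell.unique R (cell_of_rp hw) h1]
  exact hw'

include D hTH in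
/-- `H ∩ U` -/
theorem inf_U : H ⊓ RGD.Sup X (RGD.Pos cs h) = RGD.Sup X (SP cs h X H) := by
  apply le_antisymm
  · have h1 := prod_pos R D (rp_one (cs := cs) (hN := R.nsys)) (Q := H ⊓ RGD.Sup X (RGD.Pos cs h))
      (by rw [cj_one]; exact inf_le_right) (by
        intro t ht u hu
        rw [mem_cj] at hu
        obtain ⟨h1, h2⟩ := Subgroup.mem_inf.1 hu
        refine Subgroup.mem_inf.2 ⟨?_, FS_T_inv (S := RGD.Pos cs h) (fun v hv => R.tor v hv.1 t ht)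
          (mem_cj.2 h2)⟩
        have : u = t * (t⁻¹ * u * t) * t⁻¹ := by group
        rw [this]
        exact mul_mem (mul_mem (hTH ht) h1) (inv_mem (hTH ht)))
    rw [h1]
    refine RGD.Sup_mono fun x hx => ?_
    obtain ⟨hx1, hx2⟩ := hx
    rw [inv_one, map_one, Module.End.one_apply] at hx2
    exact ⟨⟨hx1.1, le_trans hx1.2 inf_le_left⟩, hx2⟩
  · exact RGD.Sup_le fun x hx => le_inf hx.1.2 (RGD.le_Sup (S := RGD.Pos cs h) ⟨hx.1.1, hx.2⟩)

include D hTH in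
/-- **Sylow subgroups**, positive case. -/
theorem sylow_pos (hpos : ∀ a ∈ RS cs h X H, -a ∉ RS cs h X H → 0 ≤ a) {P : Subgroup Y} (hP : IsPGroup p P)
    (hU : RGD.Sup X (SP cs h X H) ≤ P) (hPH : P ≤ G0 cs h T X H) : P = RGD.Sup X (SP cs h X H) := by
  by_contra hne
  have hlt : RGD.Sup X (SP cs h X H) < P := lt_of_le_of_ne hU (Ne.symm hne)
  have hnil : Group.IsNilpotent P := hP.isNilpotent
  have h1 : (RGD.Sup X (SP cs h X H)).subgroupOf P < ⊤ := by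
    rw [lt_top_iff_ne_top]
    intro h2
    rw [Subgroup.subgroupOf_eq_top] at h2
    exact absurd (lt_of_lt_of_le hlt h2) (lt_irrefl _)
  have h2 := (Group.normalizerCondition_of_isNilpotent (h := hnil)) _ h1
  obtain ⟨y, hy, hyU⟩ := SetLike.exists_of_lt h2
  have hyn : cj (y : Y) (RGD.Sup X (SP cs h X H)) = RGD.Sup X (SP cs h X H) := by
    rw [← mem_normalizer_iff_cj, Subgroup.mem_normalizer_iff]
    intro x
    have h4 := Subgroup.mem_normalizer_iff.1 hy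
    constructor
    · intro hx
      have := (h4 ⟨x, hU hx⟩).1 (Subgroup.mem_subgroupOf.2 hx)
      exact Subgroup.mem_subgroupOf.1 this
    · intro hx
      have hxP : x ∈ P := by
        have h5 : (y : Y)⁻¹ * ((y : Y) * x * (y : Y)⁻¹) * (y : Y) ∈ P :=
          mul_mem (mul_mem (inv_mem y.2) (hU hx)) y.2
        have e : (y : Y)⁻¹ * ((y : Y) * x * (y : Y)⁻¹) * (y : Y) = x := by group
        rwa [e] at h5
      have := (h4 ⟨x, hxP⟩).2 (Subgroup.mem_subgroupOf.2 hx)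
      exact Subgroup.mem_subgroupOf.1 this
  obtain ⟨u, hu, w, hw, k, hk, hkw, v, hv, e⟩ := gam_of_mem R D hTH hpos (hPH y.2)
  have hkn : cj k (RGD.Sup X (SP cs h X H)) = RGD.Sup X (SP cs h X H) := by
    have h3 : k = u⁻¹ * (y : Y) * v⁻¹ := by rw [e]; group
    rw [h3, cj_mul, cj_mul, cj_eq_of_mem (inv_mem hv), hyn, cj_eq_of_mem (inv_mem hu)]
  have hw1 : w = 1 := by
    refine eq_one_of_stab (cs := cs) (h := h) (P := PP cs h X H) (fun x hx => hx.1.1.1) (fun x hx hx' =>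
      hx.1.1.1.not_pos_neg hx.2 (neg_nonneg.1 hx'.2)) hw fun x hx => ?_
    have hx1 := RS_act R hkw (G0_le hTH hk) hx.1.1
    have hx2 := RS_act R hkw (G0_le hTH hk) hx.1.2
    refine ⟨⟨hx1, by rw [← map_neg]; exact hx2⟩, ?_⟩
    by_contra h0
    have h3 : X (rep cs h w x) ≤ RGD.Sup X (RGD.Pos cs h) := by
      rw [← R.conj_rp hkw hx.1.1.1]
      refine le_trans (cj_mono k (RGD.le_Sup (S := SP cs h X H) ⟨hx.1.1, hx.2⟩)) ?_
      rw [hkn]
      exact RGD.Sup_mono (S := SP cs h X H) (S' := RGD.Pos cs h) fun x hx => ⟨hx.1.1, hx.2⟩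
    have h4 : X (rep cs h w x) ≤ UN cs h X :=
      RGD.le_Sup (S := {x | IsRoot cs h x ∧ x ≤ 0}) ⟨hx1.1, (hx1.1.not_nonneg_iff).1 h0⟩
    exact X_ne_bot R hx1.1 (le_bot_iff.1 (U_inf_UN R ▸ le_inf h3 h4))
  subst hw1
  have hkT : k ∈ T := hkw.mem_of_one
  have hyB : (y : Y) ∈ RGD.B cs h T X := by
    have hSB : RGD.Sup X (SP cs h X H) ≤ RGD.B cs h T X :=
      le_trans (RGD.Sup_mono (S := SP cs h X H) (S' := RGD.Pos cs h) fun x hx => ⟨hx.1.1, hx.2⟩) RGD.U_le_B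
    rw [e]
    exact mul_mem (mul_mem (hSB hu) (RGD.T_le_B hkT)) (hSB hv)
  obtain ⟨j, hj⟩ := hP y
  have h5 := R.mem_U_of_mem_B hyB (k := j) (by
    have := congrArg Subtype.val hj
    rwa [SubgroupClass.coe_pow] at this)
  have h6 : (y : Y) ∈ RGD.Sup X (SP cs h X H) := by
    rw [← inf_U R D hTH]
    exact Subgroup.mem_inf.2 ⟨G0_le hTH (hPH y.2), h5⟩
  exact hyU (Subgroup.mem_subgroupOf.2 h6)

end

end Cfsg.Agent.H460.OT
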